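import Groth.Agent.L05.DualVar.Local
import Mathlib.LinearAlgebra.Matrix.NonsingularInverse
import Mathlib.LinearAlgebra.Matrix.Rank
import Mathlib.LinearAlgebra.Dimension.StrongRankCondition
import Mathlib.RingTheory.MvPolynomial.EulerIdentity

/-! Minors detecting whether a gradient lies in the span of given gradients. -/

set_option autoImplicit false
set_option linter.style.haveILetI false

universe u

open MvPolynomial

noncomputable section

namespace Groth.L05.DualVar

variable {k : Type u} [Field k]

/-- Independent vectors have a non-vanishing maximal minor. -/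
theorem exists_minor {M : ℕ} {N : Type*} [Fintype N] (v : Fin M → N → k) (h : LinearIndependent k v) :
    ∃ col : Fin M → N, (Matrix.of fun s t => v s (col t)).det ≠ 0 := by
  classical
  let B : Matrix (Fin M) N k := Matrix.of v
  have hrow : B.rank = M := by
    rw [LinearIndependent.rank_matrix (M := B) h, Fintype.card_fin]
  rw [Matrix.rank_eq_finrank_span_cols] at hrow
  obtain ⟨f, hf, -, hli⟩ := Submodule.exists_fun_fin_finrank_span_eq k (Set.range B.col)
  choose g hg using hf
  let col : Fin M → N := fun t => g (Fin.cast hrow.symm t)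
  refine ⟨col, fun h0 => ?_⟩
  have h1 : LinearIndependent k (Matrix.of fun s t => v s (col t)).col := by
    have h2 := hli.comp (Fin.cast hrow.symm) (Fin.cast_injective _)
    have he : (Matrix.of fun s t => v s (col t)).col = f ∘ Fin.cast hrow.symm := by
      ext t s
      exact congrFun (hg (Fin.cast hrow.symm t)) s
    rw [he]
    exact h2
  exact ((Matrix.isUnit_iff_isUnit_det _).1 (Matrix.linearIndependent_cols_iff_isUnit.1 h1)).ne_zero h0

variable {r m : ℕ}

/-- The minor with the gradient of the last polynomial deleted. -/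
def subMinor (g : Fin m → MvPolynomial (Fin (r + 1)) k) (col : Fin (m + 1) → Fin (r + 1)) (l : Fin (m + 1)) :
    MvPolynomial (Fin (r + 1)) k :=
  (Matrix.of fun s t : Fin m => pderiv (col (l.succAbove t)) (g s)).det

/-- A maximal minor of the Jacobian of `G` and the `g s`. -/
def minor (g : Fin m → MvPolynomial (Fin (r + 1)) k) (col : Fin (m + 1) → Fin (r + 1)) :
    MvPolynomial (Fin (r + 1)) k →ₗ[k] MvPolynomial (Fin (r + 1)) k :=
  ∑ l : Fin (m + 1), (LinearMap.mulRight k ((-1) ^ (l : ℕ) * subMinor g col l)) ∘ₗ (pderiv (col l)).toLinearMap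

theorem minor_apply (g : Fin m → MvPolynomial (Fin (r + 1)) k) (col : Fin (m + 1) → Fin (r + 1))
    (G : MvPolynomial (Fin (r + 1)) k) :
    minor g col G = ∑ l : Fin (m + 1), pderiv (col l) G * ((-1) ^ (l : ℕ) * subMinor g col l) := by
  simp [minor, mul_assoc]

theorem eval_minor (g : Fin m → MvPolynomial (Fin (r + 1)) k) (col : Fin (m + 1) → Fin (r + 1))
    (G : MvPolynomial (Fin (r + 1)) k) (c : Fin (r + 1) → k) :
    eval c (minor g col G) =
      (Matrix.of fun s t : Fin (m + 1) => (Fin.cons (grad c G) (fun s => grad c (g s)) : Fin (m + 1) → Fin (r + 1) → k) s (col t)).det := by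
  rw [Matrix.det_succ_row_zero, minor_apply, map_sum]
  refine Finset.sum_congr rfl fun l _ => ?_
  rw [map_mul, map_mul, map_pow, map_neg, map_one, subMinor, RingHom.map_det]
  simp only [Matrix.of_apply, Fin.cons_zero, grad_apply]
  rw [← mul_assoc, mul_comm (eval c (pderiv (col l) G))]
  congr 2

theorem subMinor_isHomogeneous (g : Fin m → MvPolynomial (Fin (r + 1)) k) (δ : Fin m → ℕ)
    (hg : ∀ s, (g s).IsHomogeneous (δ s)) (col : Fin (m + 1) → Fin (r + 1)) (l : Fin (m + 1)) :
    (subMinor g col l).IsHomogeneous (∑ s, (δ s - 1)) := by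
  classical
  rw [subMinor, Matrix.det_apply']
  refine IsHomogeneous.sum _ _ _ fun p _ => ?_
  rw [← map_intCast (C : k →+* MvPolynomial (Fin (r + 1)) k)]
  refine IsHomogeneous.C_mul ?_ _
  rw [← Equiv.sum_comp p]
  exact IsHomogeneous.prod _ _ _ fun t _ => (hg (p t)).pderiv

theorem minor_isHomogeneous (g : Fin m → MvPolynomial (Fin (r + 1)) k) (δ : Fin m → ℕ)
    (hg : ∀ s, (g s).IsHomogeneous (δ s)) (col : Fin (m + 1) → Fin (r + 1)) {d : ℕ}
    {G : MvPolynomial (Fin (r + 1)) k} (hG : G.IsHomogeneous d) :
    (minor g col G).IsHomogeneous (d - 1 + ∑ s, (δ s - 1)) := by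
  rw [minor_apply]
  refine IsHomogeneous.sum _ _ _ fun l _ => hG.pderiv.mul ?_
  rw [show ((-1 : MvPolynomial (Fin (r + 1)) k) ^ (l : ℕ)) = C ((-1 : k) ^ (l : ℕ)) by simp]
  exact (subMinor_isHomogeneous g δ hg col l).C_mul _

/-- A gradient lies in the span of the gradients of a family of rank `m` iff the minors vanish. -/
theorem mem_span_iff_minors (S : Set (MvPolynomial (Fin (r + 1)) k)) (c : Fin (r + 1) → k)
    (hW : Module.finrank k ↥(Submodule.span k (grad c '' S)) = m) (G : MvPolynomial (Fin (r + 1)) k) :
    grad c G ∈ Submodule.span k (grad c '' S) ↔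
      ∀ (g : Fin m → MvPolynomial (Fin (r + 1)) k), (∀ s, g s ∈ S) → ∀ col : Fin (m + 1) → Fin (r + 1),
        eval c (minor g col G) = 0 := by
  classical
  set W := Submodule.span k (grad c '' S)
  constructor
  · intro hG g hg col
    rw [eval_minor]
    by_contra h0
    have hu := Matrix.linearIndependent_rows_iff_isUnit.2
      ((Matrix.isUnit_iff_isUnit_det _).2 (isUnit_iff_ne_zero.2 h0))
    let v : Fin (m + 1) → Fin (r + 1) → k := Fin.cons (grad c G) fun s => grad c (g s)
    have hv : LinearIndependent k v := LinearIndependent.of_comp (LinearMap.funLeft k k col) hu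
    have hmem : ∀ s, v s ∈ W := by
      intro s
      refine Fin.cases ?_ (fun s => ?_) s
      · exact hG
      · simp only [v, Fin.cons_succ]
        exact Submodule.subset_span ⟨g s, hg s, rfl⟩
    have h1 := finrank_span_eq_card hv
    have h2 : Module.finrank k ↥(Submodule.span k (Set.range v)) ≤ m :=
      (Submodule.finrank_mono (Submodule.span_le.2 (Set.range_subset_iff.2 hmem))).trans_eq hW
    rw [h1, Fintype.card_fin] at h2
    omega
  · intro h
    by_contra hG
    obtain ⟨f, hf, hfs, hli⟩ := Submodule.exists_fun_fin_finrank_span_eq k (grad c '' S)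
    let f' : Fin m → Fin (r + 1) → k := fun s => f (Fin.cast hW.symm s)
    choose g hg using fun s => hf (Fin.cast hW.symm s)
    have hv : LinearIndependent k (Fin.cons (grad c G) f' : Fin (m + 1) → Fin (r + 1) → k) := by
      rw [linearIndependent_finCons]
      refine ⟨hli.comp _ (Fin.cast_injective _), fun hmem => hG ?_⟩
      exact hfs.le (Submodule.span_mono (Set.range_comp_subset_range (Fin.cast hW.symm) f) hmem)
    obtain ⟨col, hcol⟩ := exists_minor _ hv
    refine hcol ?_
    rw [← h g (fun s => (hg s).1) col, eval_minor]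
    congr 3
    funext s
    refine Fin.cases ?_ (fun s => ?_) s
    · rfl
    · simp only [Fin.cons_succ]
      exact congrArg (fun w : Fin (r + 1) → k => fun t => w (col t)) (hg s).2.symm

end Groth.L05.DualVar
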