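import Groth.Agent.L05.OrdQuad.Chart

/-! Dehomogenised forms on two charts. -/

set_option autoImplicit false
set_option linter.style.haveILetI false
set_option backward.isDefEq.respectTransparency false
set_option backward.isDefEq.respectTransparency.types false

universe u

open CategoryTheory CategoryTheory.Limits AlgebraicGeometry TopologicalSpace MvPolynomial Opposite

noncomputable section

namespace Groth.L05.DualVar

open Groth.L05.OrdQuad (σ σ_X_self)
open Groth.L18.CIProj (deh deh_form)
open Groth.L18.Frame (rs ro rs_rs rs_self rs_smul IsFrame)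
open Groth.L21.PlaneCurve (chartFrame isFrame_chartFrame dehom_smul_chartFrame)

variable {k : Type u} [Field k] {r : ℕ} {X : Scheme.{u}} (i : X ⟶ CohB1.ProjSpace r k)

theorem ro_dehom_mul {d : ℕ} (G : LefPen.Form r k d) (a b : Fin (r + 1)) (U : (CohB1.ProjSpace r k).Opens)
    (ha : U ≤ LefPen.chart r k a) (hb : U ≤ LefPen.chart r k b) :
    ro hb (LefPen.dehom G b) = ro ha (LefPen.dehom G a) *
      ro hb (LefPen.dehom (⟨MvPolynomial.X a ^ d, (mem_homogeneousSubmodule d _).2 (by
        simpa using (isHomogeneous_X k a).pow d)⟩ : LefPen.Form r k d) b) := by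
  set P : LefPen.Form r k d := ⟨MvPolynomial.X a ^ d, (mem_homogeneousSubmodule d _).2 (by
    simpa using (isHomogeneous_X k a).pow d)⟩
  have h1 : LefPen.dehom P a = 1 := by
    rw [← deh_form]
    show deh a (MvPolynomial.X a ^ d) = 1
    rw [map_pow, show deh (k := k) a (MvPolynomial.X a) = 1 from by
      show (Proj.awayToSection _ _).hom (Groth.L16.ProjSpace.toAway r k a (Groth.L16.ProjSpace.dehom r k a (MvPolynomial.X a))) = 1
      rw [Groth.L16.ProjSpace.dehom_X_self, map_one, map_one], one_pow]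
  have e1 : ∀ (F : LefPen.Form r k d) (l : Fin (r + 1)) (hl : U ≤ LefPen.chart r k l),
      ro hl (LefPen.dehom F l) • rs (Twist.twistProjSpace r k (d : ℤ)) hl (chartFrame d l) =
        rs (Twist.twistProjSpace r k (d : ℤ)) (le_top : U ≤ ⊤)
          (Groth.L18.GenLoc.secOf (Groth.L21.PlaneCurve.formHom F)) := by
    intro F l hl
    rw [← rs_smul, dehom_smul_chartFrame, rs_rs]
  refine ((isFrame_chartFrame (k := k) d b).mono hb).inj le_rfl ?_
  rw [rs_self, e1 G b hb, ← e1 G a ha, mul_smul, e1 P b hb, ← e1 P a ha, h1,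
    show ro ha (1 : Γ(CohB1.ProjSpace r k, LefPen.chart r k a)) = 1 from map_one _, one_smul]

theorem σ_change {d : ℕ} (G : MvPolynomial (Fin (r + 1)) k) (hG : G.IsHomogeneous d) (a b : Fin (r + 1)) (x : X)
    (hxa : i x ∈ LefPen.chart r k a) (hxb : i x ∈ LefPen.chart r k b) :
    σ i b x hxb G = σ i a x hxa G * σ i b x hxb (MvPolynomial.X a) ^ d := by
  let F : LefPen.Form r k d := ⟨G, (mem_homogeneousSubmodule d _).2 hG⟩
  have hσ : ∀ (l : Fin (r + 1)) (hl : i x ∈ LefPen.chart r k l) (g : MvPolynomial (Fin (r + 1)) k),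
      σ i l x hl g = (i.stalkMap x).hom (((CohB1.ProjSpace r k).presheaf.germ _ (i x) hl).hom (deh l g)) :=
    fun l hl g => (Scheme.Hom.germ_stalkMap_apply i (LefPen.chart r k l) x hl (deh l g)).symm
  set U := LefPen.chart r k a ⊓ LefPen.chart r k b
  have h := congrArg ((CohB1.ProjSpace r k).presheaf.germ U (i x) ⟨hxa, hxb⟩).hom
    (ro_dehom_mul F a b U inf_le_left inf_le_right)
  rw [map_mul] at h
  simp only [ro] at h
  erw [TopCat.Presheaf.germ_res_apply, TopCat.Presheaf.germ_res_apply, TopCat.Presheaf.germ_res_apply] at h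
  rw [← map_pow, hσ, hσ, hσ, ← map_mul]
  refine congrArg (i.stalkMap x).hom ?_
  rw [← deh_form, ← deh_form, ← deh_form] at h
  exact h

end Groth.L05.DualVar
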