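import Groth.Agent.L05.DualVar.Local
import Groth.Agent.L05.HypBertini.Main
import Mathlib.AlgebraicGeometry.Properties
import Mathlib.RingTheory.MvPolynomial.EulerIdentity
import Mathlib.RingTheory.Finiteness.Defs

/-! The homogeneous ideal of a smooth subvariety of projective space and its tangent covectors. -/

set_option autoImplicit false
set_option linter.style.haveILetI false
set_option backward.isDefEq.respectTransparency false
set_option backward.isDefEq.respectTransparency.types false
set_option maxHeartbeats 1000000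

universe u

open CategoryTheory CategoryTheory.Limits AlgebraicGeometry TopologicalSpace MvPolynomial IsLocalRing

noncomputable section

namespace Groth.L05.DualVar

open Groth.L05.OrdQuad (σ σ_C σ_X_self exists_coords isAffineOpen_preimage_chart)
open Groth.L18.CIProj (deh deh_surjective deh_form)

variable {k : Type u} [Field k] {r : ℕ}

/-- Dehomogenisation at `a` does not change a suitable homogenisation. -/
theorem exists_homogeneous (a : Fin (r + 1)) (G : MvPolynomial (Fin (r + 1)) k) :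
    ∃ (e : ℕ) (F : MvPolynomial (Fin (r + 1)) k), F.IsHomogeneous e ∧
      (∀ {R : Type u} [CommRing R] (φ : MvPolynomial (Fin (r + 1)) k →+* R), φ (MvPolynomial.X a) = 1 → φ F = φ G) ∧
      ∀ c : Fin (r + 1) → k, c a = 1 → grad c F - grad c G ∈ Submodule.span k {(Pi.single a 1 : Fin (r + 1) → k)} := by
  classical
  let N := G.totalDegree
  refine ⟨N, ∑ l ∈ Finset.range (N + 1), MvPolynomial.X a ^ (N - l) * homogeneousComponent l G, ?_, ?_, ?_⟩
  · refine IsHomogeneous.sum _ _ _ fun l hl => ?_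
    have h := ((isHomogeneous_X k a).pow (N - l)).mul (homogeneousComponent_isHomogeneous l G)
    rwa [one_mul, Nat.sub_add_cancel (Nat.lt_succ_iff.1 (Finset.mem_range.1 hl))] at h
  · intro R _ φ hφ
    conv_rhs => rw [← sum_homogeneousComponent G, map_sum]
    rw [map_sum]
    refine Finset.sum_congr rfl fun l _ => ?_
    rw [map_mul, map_pow, hφ, one_pow, one_mul]
  · intro c hc
    rw [show grad c G = grad c (∑ l ∈ Finset.range (N + 1), homogeneousComponent l G) by rw [sum_homogeneousComponent]]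
    rw [map_sum, map_sum, ← Finset.sum_sub_distrib]
    refine Submodule.sum_mem _ fun l _ => ?_
    rw [grad_mul, show eval c (MvPolynomial.X a ^ (N - l) : MvPolynomial (Fin (r + 1)) k) = 1 by
      rw [map_pow, eval_X, hc, one_pow], one_smul, add_sub_cancel_right]
    refine Submodule.smul_mem _ _ (Submodule.mem_span_singleton.2 ⟨grad c (MvPolynomial.X a ^ (N - l)) a, ?_⟩)
    funext j
    by_cases hj : j = a
    · subst hj; simp
    · rw [Pi.smul_apply, Pi.single_eq_of_ne hj, smul_zero, grad_apply, pderiv_pow, pderiv_X_of_ne (Ne.symm hj),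
        mul_zero, map_zero]

variable {X : Scheme.{u}} (i : X ⟶ CohB1.ProjSpace r k)

/-- The homogeneous polynomials vanishing on `X`. -/
def Van : Set (MvPolynomial (Fin (r + 1)) k) :=
  {F | (∃ e, F.IsHomogeneous e) ∧ ∀ b, (i.app (LefPen.chart r k b)).hom (deh b F) = 0}

variable {i}

theorem σ_eq_zero_of_van {F : MvPolynomial (Fin (r + 1)) k} (hF : F ∈ Van i) (b : Fin (r + 1)) (x : X)
    (hxb : i x ∈ LefPen.chart r k b) : σ i b x hxb F = 0 := by
  show (X.presheaf.germ _ x hxb).hom ((i.app (LefPen.chart r k b)).hom (deh b F)) = 0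
  rw [hF.2 b, map_zero]

variable [IsClosedImmersion i] [IrreducibleSpace X] [IsReduced X]

theorem van_of_σ_eq_zero {e : ℕ} {F : MvPolynomial (Fin (r + 1)) k} (hF : F.IsHomogeneous e) (a : Fin (r + 1))
    (x₀ : X) (hxa : i x₀ ∈ LefPen.chart r k a) (hzero : σ i a x₀ hxa F = 0) : F ∈ Van i := by
  refine ⟨⟨e, hF⟩, fun b => ?_⟩
  let H : LefPen.Form r k e := ⟨F, (mem_homogeneousSubmodule e _).2 hF⟩
  obtain ⟨V, hxV, iU, iV, hV⟩ := X.presheaf.germ_eq x₀ hxa hxa _ 0
    (hzero.trans (map_zero (X.presheaf.germ (i ⁻¹ᵁ LefPen.chart r k a) x₀ hxa).hom).symm)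
  have hsub : (V : Set X) ⊆ (LefPen.secIdeal i ({H} : Set (LefPen.Form r k e))).support := by
    intro z hz
    refine (Groth.L05.HypBertini.mem_support_iff i H a z (iU.le hz)).2 fun hzb => ?_
    have h3 : z ∈ X.basicOpen ((X.presheaf.map iU.op).hom ((i.app (LefPen.chart r k a)).hom (deh a H.1))) := by
      rw [X.basicOpen_res]
      exact ⟨hz, hzb⟩
    rw [show (X.presheaf.map iU.op).hom ((i.app (LefPen.chart r k a)).hom (deh a H.1)) = _ from hV, map_zero,
      X.basicOpen_zero] at h3
    exact h3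
  have hcl := closure_minimal hsub (LefPen.secIdeal i ({H} : Set (LefPen.Form r k e))).support.isClosed
  refine (basicOpen_eq_bot_iff _).1 (le_bot_iff.1 fun z hz => ?_)
  exact absurd hz ((Groth.L05.HypBertini.mem_support_iff i H b z (X.basicOpen_le _ hz)).1
    (hcl (V.2.dense ⟨x₀, hxV⟩ z)))

variable [IsAlgClosed k]

theorem exists_point_of_zero {a : Fin (r + 1)} {v : Fin (r + 1) → k} (hva : v a = 1)
    (hv : ∀ F ∈ Van i, eval v F = 0) :
    ∃ (x : X) (hxa : i x ∈ LefPen.chart r k a), IsClosed ({x} : Set X) ∧ IsCoord i a x hxa v := by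
  classical
  haveI : JacobsonSpace X := LocallyOfFiniteType.jacobsonSpace (i ≫ CohB1.ProjSpace.toSpec r k)
  obtain ⟨x₀, hx₀⟩ : ∃ x₀, i x₀ ∈ LefPen.chart r k a := by
    by_contra hall
    push Not at hall
    have hXa : (MvPolynomial.X a : MvPolynomial (Fin (r + 1)) k) ∈ Van i := by
      refine ⟨⟨1, isHomogeneous_X k a⟩, fun b => ?_⟩
      refine (basicOpen_eq_bot_iff _).1 (le_bot_iff.1 fun z hz => ?_)
      let G : LefPen.Form r k 1 := ⟨MvPolynomial.X a, LefPen.X_mem r k a⟩
      have hz' : z ∈ i ⁻¹ᵁ (CohB1.ProjSpace r k).basicOpen (LefPen.dehom G b) := by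
        rw [Scheme.preimage_basicOpen, ← deh_form]
        exact hz
      exact absurd ((Groth.L18.CIProj.basicOpen_dehom le_rfl G b (i z) (X.basicOpen_le _ hz)).1 hz') (hall z)
    have := hv _ hXa
    rw [eval_X, hva] at this
    exact one_ne_zero this
  set W := i ⁻¹ᵁ LefPen.chart r k a
  have hW : IsAffineOpen W := isAffineOpen_preimage_chart i a
  let φ : MvPolynomial (Fin (r + 1)) k →+* Γ(X, W) := (i.app (LefPen.chart r k a)).hom.comp (deh a)
  have hφ : Function.Surjective φ :=
    (Groth.L07.RegImmComp.app_surjective i (LefPen.chart r k a) (Groth.L21.PlaneCurve.isAffineOpen_chart a)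
      (IsZariskiLocalAtTarget.restrict (P := @IsClosedImmersion) inferInstance _)).comp (deh_surjective a)
  have hker : RingHom.ker φ ≤ RingHom.ker (eval v) := by
    intro G hG
    obtain ⟨e, F, hF, hFG, -⟩ := exists_homogeneous a G
    have hFv : F ∈ Van i := by
      refine van_of_σ_eq_zero hF a x₀ hx₀ ?_
      rw [hFG (σ i a x₀ hx₀) (σ_X_self i a x₀ hx₀)]
      show (X.presheaf.germ _ x₀ hx₀).hom (φ G) = 0
      rw [RingHom.mem_ker.1 hG, map_zero]
    rw [RingHom.mem_ker, ← hFG (eval v) ((eval_X a).trans hva)]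
    exact hv F hFv
  have hmaxv : (RingHom.ker (eval v)).IsMaximal :=
    RingHom.ker_isMaximal_of_surjective (eval v) fun t => ⟨C t, eval_C t⟩
  let m : Ideal Γ(X, W) := (RingHom.ker (eval v)).map φ
  have hm : m.IsMaximal := by
    refine (Ideal.map_eq_top_or_isMaximal_of_surjective φ hφ hmaxv).resolve_left fun htop => ?_
    have := congrArg (Ideal.comap φ) htop
    rw [Ideal.comap_top, Ideal.comap_map_of_surjective φ hφ, ← RingHom.ker_eq_comap_bot, sup_eq_left.2 hker] at this
    exact hmaxv.ne_top this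
  let q : PrimeSpectrum Γ(X, W) := ⟨m, hm.isPrime⟩
  let x : X := hW.fromSpec q
  have hxW : x ∈ W := hW.range_fromSpec.le ⟨q, rfl⟩
  have hx : IsClosed ({x} : Set X) := by
    have hq : IsClosed ({q} : Set (PrimeSpectrum Γ(X, W))) := (PrimeSpectrum.isClosed_singleton_iff_isMaximal q).mpr hm
    refine isClosed_singleton_of_isLocallyClosed_singleton ?_
    simpa [x, Set.image_singleton] using
      hq.isLocallyClosed.image hW.fromSpec.isOpenEmbedding.isEmbedding.isInducing
        hW.fromSpec.isOpenEmbedding.isOpen_range.isLocallyClosed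
  obtain ⟨c, hc⟩ := exists_coords i a x hxW hx
  have hcc : IsCoord i a x hxW c := hc
  refine ⟨x, hxW, hx, ?_⟩
  suffices v = c from this ▸ hcc
  funext j
  letI : Algebra Γ(X, W) (X.presheaf.stalk x) := (X.presheaf.germ W x hxW).hom.toAlgebra
  haveI := hW.isLocalization_stalk ⟨x, hxW⟩
  have hpr : (hW.primeIdealOf ⟨x, hxW⟩).asIdeal = m := congrArg PrimeSpectrum.asIdeal
    (hW.fromSpec.isOpenEmbedding.injective (hW.fromSpec_primeIdealOf ⟨x, hxW⟩) : hW.primeIdealOf ⟨x, hxW⟩ = q)
  have h1 : σ i a x hxW (MvPolynomial.X j - C (v j)) ∈ maximalIdeal (X.presheaf.stalk x) := by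
    show algebraMap Γ(X, W) (X.presheaf.stalk x) (φ (MvPolynomial.X j - C (v j))) ∈ _
    rw [IsLocalization.AtPrime.to_map_mem_maximal_iff (X.presheaf.stalk x) (hW.primeIdealOf ⟨x, hxW⟩).asIdeal, hpr]
    exact Ideal.mem_map_of_mem φ (by rw [RingHom.mem_ker, map_sub, eval_X, eval_C, sub_self])
  have h2 := (σ_mem_iff hcc _).1 h1
  rw [map_sub, eval_X, eval_C, sub_eq_zero] at h2
  exact h2.symm

omit [IsClosedImmersion i] [IrreducibleSpace X] [IsReduced X] [IsAlgClosed k] in
variable (i) in
/-- Finitely many equations of `X`. -/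
theorem exists_generators : ∃ S : Finset (MvPolynomial (Fin (r + 1)) k), ↑S ⊆ Van i ∧
    ∀ F ∈ Van i, F ∈ Ideal.span (S : Set (MvPolynomial (Fin (r + 1)) k)) := by
  obtain ⟨S, hS, hSpan⟩ := (Submodule.fg_span_iff_fg_span_finset_subset (Van i)).1
    (IsNoetherian.noetherian (Ideal.span (Van i)))
  refine ⟨S, hS, fun F hF => ?_⟩
  rw [show Ideal.span (S : Set (MvPolynomial (Fin (r + 1)) k)) = Ideal.span (Van i) from hSpan.symm]
  exact Ideal.subset_span hF

variable {a : Fin (r + 1)} {x : X} {hxa : i x ∈ LefPen.chart r k a} {c : Fin (r + 1) → k}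
  (hc : IsCoord i a x hxa c) {S : Finset (MvPolynomial (Fin (r + 1)) k)} (hS : ↑S ⊆ Van i)
  (hS' : ∀ F ∈ Van i, F ∈ Ideal.span (S : Set (MvPolynomial (Fin (r + 1)) k)))
include hc hS

omit [IsClosedImmersion i] [IrreducibleSpace X] [IsReduced X] [IsAlgClosed k] in
theorem eval_eq_zero_of_mem {F : MvPolynomial (Fin (r + 1)) k} (hF : F ∈ S) : eval c F = 0 :=
  (σ_mem_iff hc F).1 (by rw [σ_eq_zero_of_van (hS hF) a x hxa]; exact zero_mem _)

omit [IsClosedImmersion i] [IrreducibleSpace X] [IsReduced X] [IsAlgClosed k] in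
theorem dot_eq_zero {w : Fin (r + 1) → k} (hw : w ∈ Submodule.span k (grad c '' (S : Set (MvPolynomial (Fin (r + 1)) k)))) :
    ∑ j, c j * w j = 0 := by
  induction hw using Submodule.span_induction with
  | mem w hw =>
    obtain ⟨F, hF, rfl⟩ := hw
    obtain ⟨e, he⟩ := (hS hF).1
    rw [sum_mul_grad he, eval_eq_zero_of_mem hc hS hF, mul_zero]
  | zero => simp
  | add u v _ _ hu hv => simp [mul_add, Finset.sum_add_distrib, hu, hv]
  | smul t u _ hu =>
    simp only [Pi.smul_apply, smul_eq_mul]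
    rw [show ∑ j, c j * (t * u j) = t * ∑ j, c j * u j by rw [Finset.mul_sum]; exact Finset.sum_congr rfl fun j _ => by ring,
      hu, mul_zero]

include hS' in
omit [IsAlgClosed k] in
theorem jetKer_eq : jetKer i a x hxa c = Submodule.span k {(Pi.single a 1 : Fin (r + 1) → k)} ⊔
    Submodule.span k (grad c '' (S : Set (MvPolynomial (Fin (r + 1)) k))) := by
  classical
  refine le_antisymm (fun u hu => ?_) (sup_le (Submodule.span_le.2 (Set.singleton_subset_iff.2 (single_mem_jetKer hc)))
    (Submodule.span_le.2 ?_))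
  swap
  · rintro _ ⟨F, hF, rfl⟩
    exact ((σ_mem_sq_iff hc F).1 (by rw [σ_eq_zero_of_van (hS hF) a x hxa]; exact zero_mem _)).2
  let Q : Ideal (MvPolynomial (Fin (r + 1)) k) := Ideal.span (Set.range fun j => MvPolynomial.X j - C (c j))
  have hQ : Q.map (σ i a x hxa) = maximalIdeal (X.presheaf.stalk x) := by
    rw [Ideal.map_span, ← Set.range_comp]
    exact hc
  have hQe : ∀ g ∈ Q, eval c g = 0 := fun g hg =>
    (σ_mem_iff hc g).1 (hQ.le (Ideal.mem_map_of_mem _ hg))
  have hQ2 : ∀ g ∈ Q ^ 2, eval c g = 0 ∧ grad c g = 0 := by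
    intro g hg
    rw [pow_two] at hg
    induction hg using Submodule.mul_induction_on' with
    | mem_mul_mem p hp q hq =>
      exact ⟨by rw [map_mul, hQe p hp, zero_mul], by rw [grad_mul, hQe p hp, hQe q hq, zero_smul, zero_smul, add_zero]⟩
    | add p _ q _ hp hq => exact ⟨by rw [map_add, hp.1, hq.1, add_zero], by rw [map_add, hp.2, hq.2, add_zero]⟩
  let L : MvPolynomial (Fin (r + 1)) k := ∑ j, C (u j) * (MvPolynomial.X j - C (c j))
  have hL : σ i a x hxa L ∈ (Q ^ 2).map (σ i a x hxa) := by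
    rw [Ideal.map_pow, hQ, map_sum]
    simp only [map_mul]
    exact hu
  obtain ⟨g, hg, s, hs, hzs⟩ : ∃ g ∈ Q ^ 2, ∃ s, IsUnit (σ i a x hxa s) ∧
      σ i a x hxa L * σ i a x hxa s = σ i a x hxa g := by
    rw [Ideal.map, ← Ideal.submodule_span_eq] at hL
    generalize σ i a x hxa L = z at hL
    induction hL using Submodule.span_induction with
    | mem z hz =>
      obtain ⟨g, hg, rfl⟩ := hz
      exact ⟨g, hg, 1, by simp, by simp⟩
    | zero => exact ⟨0, zero_mem _, 1, by simp, by simp⟩
    | add z z' _ _ hz hz' =>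
      obtain ⟨g, hg, s, hs, h⟩ := hz
      obtain ⟨g', hg', s', hs', h'⟩ := hz'
      refine ⟨g * s' + g' * s, add_mem (Ideal.mul_mem_right _ _ hg) (Ideal.mul_mem_right _ _ hg'), s * s',
        by rw [map_mul]; exact hs.mul hs', ?_⟩
      rw [map_add, map_mul, map_mul, map_mul, ← h, ← h']
      ring
    | smul t z _ hz =>
      obtain ⟨g, hg, s, hs, h⟩ := hz
      obtain ⟨g', s', hs', h'⟩ := Groth.L05.OrdQuad.exists_fraction i a x hxa t
      refine ⟨g' * g, Ideal.mul_mem_left _ _ hg, s' * s, by rw [map_mul]; exact hs'.mul hs, ?_⟩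
      rw [smul_eq_mul, map_mul, map_mul, ← h, ← h']
      ring
  let G := L * s - g
  have hG : σ i a x hxa G = 0 := by rw [map_sub, map_mul, hzs, sub_self]
  have hsc : eval c s ≠ 0 := fun h => by
    exact (mem_nonunits_iff.1 ((mem_maximalIdeal _).1 ((σ_mem_iff hc s).2 h))) hs
  have hLe : eval c L = 0 := by simp [L]
  have hLg : grad c L = u := by
    funext j
    simp [L, grad_apply, map_sum, pderiv_X, Pi.single_apply, Finset.sum_ite_eq']
  have hGg : grad c G = eval c s • u := by
    rw [map_sub, grad_mul, hLe, (hQ2 g hg).2, zero_smul, add_zero, sub_zero, hLg]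
  obtain ⟨e, F, hF, hFG, hFg⟩ := exists_homogeneous a G
  have hFv : F ∈ Van i := van_of_σ_eq_zero hF a x hxa (by rw [hFG (σ i a x hxa) (σ_X_self i a x hxa), hG])
  have hgF : grad c F ∈ Submodule.span k (grad c '' (S : Set (MvPolynomial (Fin (r + 1)) k))) := by
    have := hS' F hFv
    clear hFG hFg hFv hF
    suffices eval c F = 0 ∧ grad c F ∈ Submodule.span k (grad c '' (S : Set (MvPolynomial (Fin (r + 1)) k))) from this.2
    induction this using Submodule.span_induction with
    | mem p hp => exact ⟨eval_eq_zero_of_mem hc hS hp, Submodule.subset_span ⟨p, hp, rfl⟩⟩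
    | zero => exact ⟨map_zero _, by rw [map_zero]; exact zero_mem _⟩
    | add p q _ _ hp hq => exact ⟨by rw [map_add, hp.1, hq.1, add_zero], by rw [map_add]; exact add_mem hp.2 hq.2⟩
    | smul t p _ hp =>
      refine ⟨by rw [smul_eq_mul, map_mul, hp.1, mul_zero], ?_⟩
      rw [smul_eq_mul, grad_mul, hp.1, zero_smul, zero_add]
      exact Submodule.smul_mem _ _ hp.2
  have h1 : eval c s • u ∈ Submodule.span k {(Pi.single a 1 : Fin (r + 1) → k)} ⊔
      Submodule.span k (grad c '' (S : Set (MvPolynomial (Fin (r + 1)) k))) := by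
    rw [← hGg]
    have h2 := sub_mem (Submodule.mem_sup_right hgF) (Submodule.mem_sup_left (hFg c (coord_self hc)))
    rwa [sub_sub_cancel] at h2
  simpa [smul_smul, inv_mul_cancel₀ hsc] using Submodule.smul_mem _ (eval c s)⁻¹ h1

include hS' in
/-- Tangency of a form, in terms of the equations. -/
theorem σ_form_mem_sq_iff {e : ℕ} (H : LefPen.Form r k e) :
    σ i a x hxa H.1 ∈ maximalIdeal (X.presheaf.stalk x) ^ 2 ↔
      eval c H.1 = 0 ∧ grad c H.1 ∈ Submodule.span k (grad c '' (S : Set (MvPolynomial (Fin (r + 1)) k))) := by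
  classical
  rw [σ_mem_sq_iff hc, jetKer_eq hc hS hS']
  refine and_congr_right fun h0 => ⟨fun h => ?_, fun h => Submodule.mem_sup_right h⟩
  obtain ⟨p, hp, w, hw, hpw⟩ := Submodule.mem_sup.1 h
  obtain ⟨t, rfl⟩ := Submodule.mem_span_singleton.1 hp
  have h1 := sum_mul_grad (c := c) ((mem_homogeneousSubmodule e _).1 H.2)
  rw [h0, mul_zero, ← hpw] at h1
  simp only [Pi.add_apply, mul_add, Finset.sum_add_distrib, dot_eq_zero hc hS hw, add_zero] at h1
  rw [Finset.sum_eq_single a (fun j _ hj => by rw [Pi.smul_apply, Pi.single_eq_of_ne hj, smul_zero, mul_zero])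
    (fun h => absurd (Finset.mem_univ a) h), Pi.smul_apply, Pi.single_eq_same, coord_self hc, one_mul, smul_eq_mul,
    mul_one] at h1
  rw [← hpw, h1, zero_smul, zero_add]
  exact hw

include hS' in
theorem finrank_span_grad (hx : IsClosed ({x} : Set X)) (n : ℕ) [IsLocallyNoetherian X]
    (hn : Module.finrank (ResidueField (X.presheaf.stalk x)) (CotangentSpace (X.presheaf.stalk x)) = n) :
    Module.finrank k ↥(Submodule.span k (grad c '' (S : Set (MvPolynomial (Fin (r + 1)) k)))) + n = r := by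
  classical
  set W := Submodule.span k (grad c '' (S : Set (MvPolynomial (Fin (r + 1)) k)))
  have h := finrank_jetKer hc hx n hn
  have hinf : Submodule.span k {(Pi.single a 1 : Fin (r + 1) → k)} ⊓ W = ⊥ := by
    rw [eq_bot_iff]
    rintro w ⟨hp, hw⟩
    obtain ⟨t, rfl⟩ := Submodule.mem_span_singleton.1 hp
    have h1 := dot_eq_zero hc hS hw
    rw [Finset.sum_eq_single a (fun j _ hj => by rw [Pi.smul_apply, Pi.single_eq_of_ne hj, smul_zero, mul_zero])
      (fun h => absurd (Finset.mem_univ a) h), Pi.smul_apply, Pi.single_eq_same, coord_self hc, one_mul, smul_eq_mul,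
      mul_one] at h1
    rw [h1, zero_smul]
    exact zero_mem _
  have h2 := Submodule.finrank_sup_add_finrank_inf_eq (Submodule.span k {(Pi.single a 1 : Fin (r + 1) → k)}) W
  rw [hinf, finrank_bot, ← jetKer_eq hc hS hS', finrank_span_singleton (by
    intro h0
    have := congrFun h0 a
    rw [Pi.single_eq_same] at this
    exact one_ne_zero this)] at h2
  omega

end Groth.L05.DualVar
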