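import Groth.Agent.L05.HypBertini.Main
import Groth.Agent.L26.Weil.Axes

/-! Transversality of a hypersurface section in terms of first order jets. -/

set_option autoImplicit false
set_option linter.style.haveILetI false
set_option backward.isDefEq.respectTransparency false
set_option backward.isDefEq.respectTransparency.types false
set_option maxHeartbeats 1000000

universe u

open CategoryTheory CategoryTheory.Limits AlgebraicGeometry TopologicalSpace MvPolynomial IsLocalRing

noncomputable section

namespace Groth.L05.DualVar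

open Groth.L05.OrdQuad (σ)

variable {k : Type u} [Field k] [IsAlgClosed k] {r : ℕ} {X : Scheme.{u}} (i : X ⟶ CohB1.ProjSpace r k)
  [IsClosedImmersion i] (n : ℕ) [SmoothOfRelativeDimension n (i ≫ CohB1.ProjSpace.toSpec r k)]

omit [IsAlgClosed k] in
theorem spanFinrank_le_of_mem_sq {A B : Type u} [CommRing A] [IsLocalRing A] [IsNoetherianRing A] [CommRing B]
    [IsLocalRing B] [IsNoetherianRing B] (p : A →+* B) (hp : Function.Surjective p) {h : A}
    (hker : RingHom.ker p = Ideal.span {h}) (hh : h ∈ maximalIdeal A ^ 2) :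
    (maximalIdeal A).spanFinrank ≤ (maximalIdeal B).spanFinrank := by
  classical
  set g := (maximalIdeal B).generators
  have hfin : g.Finite := Submodule.FG.finite_generators (IsNoetherian.noetherian (maximalIdeal B))
  choose s hs using hp
  let J := Ideal.span (s '' g)
  have hJp : J.map p = maximalIdeal B := by
    rw [Ideal.map_span, Set.image_image, show (fun b => p (s b)) = id from funext hs, Set.image_id]
    exact Submodule.span_generators _
  have hm : maximalIdeal A = J ⊔ RingHom.ker p := by
    have h1 : (maximalIdeal B).comap p = maximalIdeal A := by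
      haveI : IsLocalHom p := IsLocalHom.of_surjective p (fun b => ⟨s b, hs b⟩)
      exact (IsLocalRing.local_hom_TFAE p).out 0 4 rfl rfl |>.1 inferInstance
    rw [← h1, ← hJp, Ideal.comap_map_of_surjective p (fun b => ⟨s b, hs b⟩), ← RingHom.ker_eq_comap_bot]
  have hle : maximalIdeal A ≤ J := by
    refine Submodule.le_of_le_smul_of_le_jacobson_bot (I := maximalIdeal A) (IsNoetherian.noetherian _)
      (IsLocalRing.maximalIdeal_le_jacobson ⊥) ?_
    conv_lhs => rw [hm]
    refine sup_le le_sup_left (le_trans ?_ le_sup_right)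
    rw [hker, Ideal.span_singleton_le_iff_mem, smul_eq_mul, ← pow_two]
    exact hh
  have he : maximalIdeal A = Submodule.span A (s '' g) := le_antisymm hle (hm ▸ le_sup_left)
  rw [he]
  refine (Submodule.spanFinrank_span_le_ncard_of_finite (hfin.image s)).trans ((Set.ncard_image_le hfin).trans ?_)
  exact (Submodule.FG.generators_ncard (IsNoetherian.noetherian (maximalIdeal B))).le

include n in
theorem transversal_iff (hn : 1 ≤ n) {d : ℕ} (H : LefPen.Form r k d) :
    LefPen.Transversal k n 1 (LefPen.secToSpec i ({H} : Set (LefPen.Form r k d))) ↔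
      ∀ (a : Fin (r + 1)) (x : X) (hxa : i x ∈ LefPen.chart r k a), IsClosed ({x} : Set X) →
        σ i a x hxa H.1 ∉ maximalIdeal (X.presheaf.stalk x) ^ 2 := by
  haveI : Smooth (i ≫ CohB1.ProjSpace.toSpec r k) := SmoothOfRelativeDimension.smooth n _
  haveI : IsLocallyNoetherian X := LocallyOfFiniteType.isLocallyNoetherian i
  set ι' := LefPen.secι i ({H} : Set (LefPen.Form r k d))
  haveI : IsLocallyNoetherian (LefPen.Sec i ({H} : Set (LefPen.Form r k d))) :=
    LocallyOfFiniteType.isLocallyNoetherian ι'
  constructor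
  · rintro (⟨-, hsm⟩ | ⟨hlt, -⟩) a x hxa hx hmem
    swap
    · omega
    haveI := hsm
    obtain ⟨y, hy⟩ := Groth.L05.OrdQuad.exists_mem_secι i a x hxa H (Ideal.pow_le_self two_ne_zero hmem)
    obtain ⟨p, hp, hker, -⟩ := Groth.L05.OrdQuad.σ_form_ker_secι i a x hxa H y hy
    have hyc : IsClosed ({y} : Set (LefPen.Sec i ({H} : Set (LefPen.Form r k d)))) := by
      have : ({y} : Set (LefPen.Sec i ({H} : Set (LefPen.Form r k d)))) = ι' ⁻¹' {x} := by
        ext z
        simp only [Set.mem_singleton_iff, Set.mem_preimage]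
        exact ⟨fun h => h ▸ hy, fun h => ι'.isClosedEmbedding.injective (h.trans hy.symm)⟩
      rw [this]
      exact hx.preimage ι'.continuous
    have h1 := Groth.L14.Quot.finrank_cotangent_of_smoothOfRelativeDimension
      (LefPen.secToSpec i ({H} : Set (LefPen.Form r k d))) (n - 1) y hyc
    have h2 := Groth.L14.Quot.finrank_cotangent_of_smoothOfRelativeDimension
      (i ≫ CohB1.ProjSpace.toSpec r k) n x hx
    have h3 := spanFinrank_le_of_mem_sq p hp hker hmem
    rw [spanFinrank_maximalIdeal_eq_finrank_cotangentSpace, spanFinrank_maximalIdeal_eq_finrank_cotangentSpace,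
      h1, h2] at h3
    omega
  · intro hall
    have hloc : ∀ y : LefPen.Sec i ({H} : Set (LefPen.Form r k d)), IsClosed ({y} : Set _) →
        IsRegularLocalRing ((LefPen.Sec i ({H} : Set (LefPen.Form r k d))).presheaf.stalk y) ∧
        ringKrullDim ((LefPen.Sec i ({H} : Set (LefPen.Form r k d))).presheaf.stalk y) = ((n - 1 : ℕ) : WithBot ℕ∞) := by
      intro y hy
      set x₀ := ι' y
      have hx₀ : IsClosed ({x₀} : Set X) := by
        simpa [Set.image_singleton] using ι'.isClosedEmbedding.isClosedMap _ hy
      obtain ⟨a, hxa⟩ : ∃ a, i x₀ ∈ LefPen.chart r k a := Groth.L21.PlaneCurve.exists_mem_chart _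
      obtain ⟨p, hp, hker, -⟩ := Groth.L05.OrdQuad.σ_form_ker_secι i a x₀ hxa H y rfl
      haveI : IsRegularLocalRing (X.presheaf.stalk x₀) :=
        Groth.L08.Cube.isRegularLocalRing_of_smooth (i ≫ CohB1.ProjSpace.toSpec r k) x₀
      haveI := Groth.L01.isDomain_of_regular (X.presheaf.stalk x₀)
      have hnsq := hall a x₀ hxa hx₀
      have hne : σ i a x₀ hxa H.1 ≠ 0 := fun h => hnsq (h ▸ zero_mem _)
      have hmem : σ i a x₀ hxa H.1 ∈ maximalIdeal (X.presheaf.stalk x₀) :=
        le_maximalIdeal (RingHom.ker_ne_top p) (hker.ge (Ideal.mem_span_singleton_self _))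
      let e := (Ideal.quotEquivOfEq hker.symm).trans (RingHom.quotientKerEquivOfSurjective hp)
      have hreg : IsRegularLocalRing ((LefPen.Sec i ({H} : Set (LefPen.Form r k d))).presheaf.stalk y) := by
        haveI : Nontrivial (X.presheaf.stalk x₀ ⧸ Ideal.span {σ i a x₀ hxa H.1}) := e.toEquiv.nontrivial
        haveI : IsLocalRing (X.presheaf.stalk x₀ ⧸ Ideal.span {σ i a x₀ hxa H.1}) :=
          IsLocalRing.of_surjective' (Ideal.Quotient.mk _) Ideal.Quotient.mk_surjective
        haveI : IsRegularLocalRing (X.presheaf.stalk x₀ ⧸ Ideal.span {σ i a x₀ hxa H.1}) :=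
          (Groth.L01.regular_quotient_of_notMem_sq hmem hnsq).1
        exact IsRegularLocalRing.of_ringEquiv e
      refine ⟨hreg, ?_⟩
      have hdim : ringKrullDim (X.presheaf.stalk x₀) = ((n : ℕ) : WithBot ℕ∞) := by
        rw [← (IsRegularLocalRing.iff_finrank_cotangentSpace _).1 inferInstance,
          Groth.L14.Quot.finrank_cotangent_of_smoothOfRelativeDimension (i ≫ CohB1.ProjSpace.toSpec r k) n x₀ hx₀]
      have h1 := ringKrullDim_quotient_span_singleton_succ_eq_ringKrullDim_of_mem_nonZeroDivisors
        (mem_nonZeroDivisors_of_ne_zero hne) hmem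
      rw [ringKrullDim_eq_of_ringEquiv e, hdim] at h1
      obtain ⟨m, hm⟩ := Groth.L01.exists_dim_eq_nat (R := (LefPen.Sec i ({H} : Set (LefPen.Form r k d))).presheaf.stalk y)
      rw [hm] at h1 ⊢
      have h2 : m + 1 = n := by exact_mod_cast h1
      exact_mod_cast (show m = n - 1 by omega)
    haveI : LocallyOfFiniteType (LefPen.secToSpec i ({H} : Set (LefPen.Form r k d))) := inferInstance
    haveI : Smooth (LefPen.secToSpec i ({H} : Set (LefPen.Form r k d))) :=
      Groth.L26.Weil.smooth_of_regular_closed _ fun y hy => (hloc y hy).1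
    exact Or.inl ⟨hn, Groth.L05.HypBertini.smoothOfRelativeDimension_of_stalks _ (n - 1) fun y hy => (hloc y hy).2⟩

end Groth.L05.DualVar
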