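import Groth.Agent.L05.DualVar.PolyFun
import Groth.Agent.L14.Fano.ExistsLine
import Mathlib.RingTheory.Nullstellensatz
import Mathlib.FieldTheory.IsAlgClosed.Basic
import Mathlib.LinearAlgebra.Matrix.NonsingularInverse

/-! Elimination for families of homogeneous equations: having no common non-trivial zero is open. -/

set_option autoImplicit false
set_option linter.style.haveILetI false

universe u

open MvPolynomial

noncomputable section

namespace Groth.L05.DualVar

open Groth.L14.Fano (Mon)

variable {k : Type u} [Field k] [IsAlgClosed k] {r : ℕ} {V : Type u} [AddCommGroup V] [Module k V]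
  {J : Type*} [Fintype J] (δ : J → ℕ) (P : J → V → MvPolynomial (Fin (r + 1)) k)

omit [IsAlgClosed k] [Fintype J] [AddCommGroup V] [Module k V] in
theorem component_mem (hhom : ∀ j H, (P j H).IsHomogeneous (δ j)) (H : V) (e : ℕ)
    (j : J) (g : MvPolynomial (Fin (r + 1)) k) :
    homogeneousComponent e (g * P j H) ∈ Submodule.span k
      (Set.range fun s : {j : J // δ j ≤ e} × (Fin (r + 1) →₀ ℕ) =>
        if s.2.degree + δ s.1.1 = e then monomial s.2 1 * P s.1.1 H else 0) := by
  classical
  induction g using MvPolynomial.induction_on' with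
  | monomial ν a =>
    have hh : (monomial ν a * P j H).IsHomogeneous (ν.degree + δ j) := (isHomogeneous_monomial a rfl).mul (hhom j H)
    rw [homogeneousComponent_of_mem hh]
    split_ifs with h
    · have hm := Submodule.smul_mem (Submodule.span k
        (Set.range fun s : {j : J // δ j ≤ e} × (Fin (r + 1) →₀ ℕ) =>
          if s.2.degree + δ s.1.1 = e then monomial s.2 1 * P s.1.1 H else 0)) a
        (Submodule.subset_span ⟨(⟨j, by omega⟩, ν), rfl⟩)
      simp only at hm
      rw [if_pos h.symm, ← smul_mul_assoc, smul_monomial, smul_eq_mul, mul_one] at hm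
      exact hm
    · exact zero_mem _
  | add p q hp hq => rw [add_mul, map_add]; exact add_mem hp hq

/-- Having no common zero but the origin is open in the parameters. -/
theorem isOpen_noCommonZero (hhom : ∀ j H, (P j H).IsHomogeneous (δ j))
    (hpoly : ∀ j μ, LefPen.IsPolyFun k fun H => coeff μ (P j H)) (H₀ : V)
    (h0 : ∀ v : Fin (r + 1) → k, (∀ j, eval v (P j H₀) = 0) → v = 0) :
    ∃ f : V → k, LefPen.IsPolyFun k f ∧ f H₀ ≠ 0 ∧
      ∀ H, f H ≠ 0 → ∀ v : Fin (r + 1) → k, (∀ j, eval v (P j H) = 0) → v = 0 := by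
  classical
  let I : Ideal (MvPolynomial (Fin (r + 1)) k) := Ideal.span (Set.range fun j => P j H₀)
  have hrad : ∀ i, MvPolynomial.X i ∈ I.radical := by
    intro i
    rw [← vanishingIdeal_zeroLocus_eq_radical (k := k) (K := k) I, mem_vanishingIdeal_iff]
    intro v hv
    have : v = 0 := h0 v fun j => by
      have := mem_zeroLocus_iff.1 hv (P j H₀) (Ideal.subset_span ⟨j, rfl⟩)
      rwa [aeval_eq_eval] at this
    rw [aeval_X, this]
    rfl
  choose e he using hrad
  let E := (∑ i, e i) + 1
  have hmon : ∀ μ : Mon (r + 1) E, monomial μ.1 (1 : k) ∈ I := by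
    intro μ
    obtain ⟨i, hi⟩ : ∃ i, e i ≤ μ.1 i := by
      by_contra hall
      push Not at hall
      have h1 : ∑ i, μ.1 i ≤ ∑ i, e i := Finset.sum_le_sum fun i _ => (hall i).le
      have h2 := μ.2
      rw [Finsupp.degree_eq_sum] at h2
      omega
    rw [show monomial μ.1 (1 : k) = monomial (μ.1 - Finsupp.single i (e i)) 1 * MvPolynomial.X i ^ e i by
      rw [X_pow_eq_monomial, monomial_mul, one_mul, tsub_add_cancel_of_le (Finsupp.single_le_iff.2 hi)]]
    exact Ideal.mul_mem_left _ _ (he i)
  let C' := Σ j : {j : J // δ j ≤ E}, Mon (r + 1) (E - δ j.1)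
  let M : V → Matrix (Mon (r + 1) E) C' k := fun H μ s => coeff μ.1 (monomial s.2.1 1 * P s.1.1 H)
  have hM : ∀ μ, ∃ N : C' → k, (M H₀).mulVec N = Pi.single μ 1 := by
    intro μ
    obtain ⟨g, hg⟩ := Ideal.mem_span_range_iff_exists_fun.1 (hmon μ)
    have h1 : monomial μ.1 (1 : k) ∈ Submodule.span k (Set.range fun s : C' => monomial s.2.1 1 * P s.1.1 H₀) := by
      have h2 : monomial μ.1 (1 : k) = ∑ j, homogeneousComponent E (g j * P j H₀) := by
        rw [← map_sum, hg, homogeneousComponent_of_mem (isHomogeneous_monomial 1 μ.2), if_pos rfl]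
      rw [h2]
      refine Submodule.sum_mem _ fun j _ => Submodule.span_le.2 ?_ (component_mem δ P hhom H₀ E j (g j))
      rintro _ ⟨⟨j', ν⟩, rfl⟩
      show (if _ then _ else _) ∈ _
      split_ifs with h
      · exact Submodule.subset_span ⟨⟨j', ⟨ν, by have := j'.2; simp only at h; omega⟩⟩, rfl⟩
      · exact zero_mem _
    obtain ⟨N, hN⟩ := (Submodule.mem_span_range_iff_exists_fun k).1 h1
    refine ⟨N, funext fun μ' => ?_⟩
    have h3 := congrArg (coeff μ'.1) hN
    simp only [coeff_sum, coeff_smul, smul_eq_mul, coeff_monomial] at h3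
    rw [Pi.single_apply]
    simp only [Matrix.mulVec, dotProduct, M]
    rw [Finset.sum_congr rfl fun s _ => mul_comm _ _, h3]
    by_cases h : μ' = μ
    · rw [if_pos h, if_pos (congrArg Subtype.val h).symm]
    · rw [if_neg h, if_neg fun h' => h (Subtype.ext h'.symm)]
  choose N hN using hM
  let N₀ : Matrix C' (Mon (r + 1) E) k := fun s μ => N μ s
  have hMN : M H₀ * N₀ = 1 := by
    ext μ' μ
    have := congrFun (hN μ) μ'
    rw [Matrix.mul_apply, Matrix.one_apply]
    rw [Pi.single_apply] at this
    exact this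
  refine ⟨fun H => (M H * N₀).det, ?_, by show (M H₀ * N₀).det ≠ 0; rw [hMN, Matrix.det_one]; exact one_ne_zero,
    fun H hH v hv => ?_⟩
  · refine isPolyFun_det _ fun μ μ' => ?_
    simp only [Matrix.mul_apply]
    refine isPolyFun_sum _ _ fun s _ => ?_
    unfold LefPen.IsPolyFun
    rw [show (fun H => M H μ s * N₀ s μ') = (N₀ s μ') • (fun H => M H μ s) from funext fun H => mul_comm _ _]
    refine Subalgebra.smul_mem _ ?_ _
    by_cases hle : s.2.1 ≤ μ.1
    · have h4 : (fun H => M H μ s) = fun H => coeff (μ.1 - s.2.1) (P s.1.1 H) := funext fun H => by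
        simp only [M, coeff_monomial_mul', if_pos hle, one_mul]
      rw [h4]
      exact hpoly _ _
    · have h4 : (fun H => M H μ s) = 0 := funext fun H => by
        simp only [M, coeff_monomial_mul', if_neg hle, Pi.zero_apply]
      rw [h4]
      exact zero_mem _
  · have h5 : (fun μ : Mon (r + 1) E => eval v (monomial μ.1 (1 : k))) = 0 := by
      refine Matrix.eq_zero_of_vecMul_eq_zero hH ?_
      rw [← Matrix.vecMul_vecMul]
      have h6 : Matrix.vecMul (fun μ : Mon (r + 1) E => eval v (monomial μ.1 (1 : k))) (M H) = 0 := by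
        funext s
        simp only [Matrix.vecMul, dotProduct, M, Pi.zero_apply]
        have hh : (monomial s.2.1 (1 : k) * P s.1.1 H).IsHomogeneous E := by
          have := (isHomogeneous_monomial (1 : k) s.2.2).mul (hhom s.1.1 H)
          rwa [Nat.sub_add_cancel s.1.2] at this
        have h7 : eval v (monomial s.2.1 (1 : k) * P s.1.1 H) =
            ∑ μ : Mon (r + 1) E, eval v (monomial μ.1 (1 : k)) * coeff μ.1 (monomial s.2.1 (1 : k) * P s.1.1 H) := by
          set G := monomial s.2.1 (1 : k) * P s.1.1 H
          conv_lhs => rw [G.as_sum, map_sum]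
          refine Eq.trans ?_ (Finset.sum_congr rfl fun μ _ =>
            show eval v (monomial μ.1 (coeff μ.1 G)) = eval v (monomial μ.1 (1 : k)) * coeff μ.1 G by
              rw [eval_monomial, eval_monomial]; ring)
          refine Eq.trans ?_ (Finset.sum_map (Finset.univ : Finset (Mon (r + 1) E))
            ⟨Subtype.val, Subtype.val_injective⟩ fun μ => eval v (monomial μ (coeff μ G)))
          refine Finset.sum_subset (fun μ hμ => ?_) fun μ _ hμ => by
            rw [notMem_support_iff.1 hμ, monomial_zero, map_zero]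
          refine Finset.mem_map.2 ⟨⟨μ, ?_⟩, Finset.mem_univ _, rfl⟩
          by_contra h
          exact mem_support_iff.1 hμ (hh.coeff_eq_zero h)
        rw [← h7, map_mul, hv, mul_zero]
      rw [h6, Matrix.zero_vecMul]
    funext i
    have h8 := congrFun h5 ⟨Finsupp.single i E, Finsupp.degree_single i E⟩
    rw [← X_pow_eq_monomial, map_pow, eval_X] at h8
    exact eq_zero_of_pow_eq_zero h8

end Groth.L05.DualVar
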