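import Groth.Agent.L05.DualVar.Main

/-! The forms cutting a smooth projective variety non-transversally form an irreducible closed set. -/

set_option autoImplicit false
set_option linter.style.haveILetI false
set_option backward.isDefEq.respectTransparency false
set_option backward.isDefEq.respectTransparency.types false
set_option maxHeartbeats 1000000

universe u

open CategoryTheory CategoryTheory.Limits AlgebraicGeometry TopologicalSpace MvPolynomial IsLocalRing

noncomputable section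

namespace Groth.L05.DualVar

open Groth.L05.OrdQuad (σ exists_coords)

variable {k : Type u} [Field k] [IsAlgClosed k] {r : ℕ} {X : Scheme.{u}} {i : X ⟶ CohB1.ProjSpace r k}
  [IsClosedImmersion i] [IrreducibleSpace X]
  {S : Finset (MvPolynomial (Fin (r + 1)) k)} {m n d : ℕ}
  [SmoothOfRelativeDimension n (i ≫ CohB1.ProjSpace.toSpec r k)] [IsReduced X] [IsLocallyNoetherian X]

variable (n i) in
theorem exists_eqns : ∃ (S : Finset (MvPolynomial (Fin (r + 1)) k)) (m : ℕ), Eqns i S m n := by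
  obtain ⟨S, hS, hS'⟩ := exists_generators i
  haveI : JacobsonSpace X := LocallyOfFiniteType.jacobsonSpace (i ≫ CohB1.ProjSpace.toSpec r k)
  obtain ⟨x, -, hx⟩ := nonempty_inter_closedPoints (X := X) (Z := Set.univ) Set.univ_nonempty
    isOpen_univ.isLocallyClosed
  obtain ⟨a, hxa⟩ : ∃ a, i x ∈ LefPen.chart r k a := Groth.L21.PlaneCurve.exists_mem_chart _
  obtain ⟨c, hc⟩ := exists_coords i a x hxa hx
  have := finrank_span_grad (i := i) (hc : IsCoord i a x hxa c) hS hS' hx n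
    (Groth.L14.Quot.finrank_cotangent_of_smoothOfRelativeDimension (i ≫ CohB1.ProjSpace.toSpec r k) n x hx)
  exact ⟨S, r - n, hS, hS', by omega⟩

theorem eval_smul_of_isHomogeneous {F : MvPolynomial (Fin (r + 1)) k} {e : ℕ} (hF : F.IsHomogeneous e) (t : k)
    (v : Fin (r + 1) → k) : eval (t • v) F = t ^ e * eval v F := by
  rw [eval_eq', eval_eq', Finset.mul_sum]
  refine Finset.sum_congr rfl fun μ hμ => ?_
  simp only [Pi.smul_apply, smul_eq_mul, mul_pow, Finset.prod_mul_distrib]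
  rw [Finset.prod_pow_eq_pow_sum, ← Finsupp.degree_eq_sum,
    show μ.degree = e by by_contra h; exact mem_support_iff.1 hμ (hF.coeff_eq_zero h)]
  ring

/-- Transversality is open in the form. -/
theorem isZOpen_transversal (hE : Eqns i S m n) (hn : 1 ≤ n) :
    LefPen.IsZOpen k {H : LefPen.Form r k d |
      LefPen.Transversal k n 1 (LefPen.secToSpec i ({H} : Set (LefPen.Form r k d)))} := by
  classical
  intro H₀ hH₀
  choose e he using fun F : ↥S => (hE.sub F.2).1
  let P : ↥S ⊕ LinIdx S m → LefPen.Form r k d → MvPolynomial (Fin (r + 1)) k := fun j H =>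
    Sum.elim (fun F : ↥S => F.1) (fun l => linEq S m l H.1) j
  let δ : ↥S ⊕ LinIdx S m → ℕ :=
    Sum.elim e (Sum.elim (fun _ => d) fun p => d - 1 + ∑ s, (e (p.1 s) - 1))
  have hhom : ∀ j H, (P j H).IsHomogeneous (δ j) := by
    rintro (F | u | p) H
    · exact he F
    · exact (mem_homogeneousSubmodule d _).1 H.2
    · exact minor_isHomogeneous (fun s => (p.1 s).1) (fun s => e (p.1 s)) (fun s => he (p.1 s)) p.2
        ((mem_homogeneousSubmodule d _).1 H.2)
  have hpoly : ∀ j μ, LefPen.IsPolyFun k fun H => coeff μ (P j H) := by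
    rintro (F | l) μ
    · exact Subalgebra.algebraMap_mem _ (coeff μ F.1)
    · exact isPolyFun_linear (MvPolynomial.lcoeff k μ ∘ₗ linEq S m l ∘ₗ (CohB1.polyGrading r k d).subtype)
  have h0 : ∀ v : Fin (r + 1) → k, (∀ j, eval v (P j H₀) = 0) → v = 0 := by
    intro v hv
    by_contra hv0
    obtain ⟨a, ha⟩ := Function.ne_iff.1 hv0
    set w := (v a)⁻¹ • v
    have hw : ∀ j, eval w (P j H₀) = 0 := fun j => by
      rw [eval_smul_of_isHomogeneous (hhom j H₀), hv j, mul_zero]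
    have hwa : w a = 1 := by
      show (v a)⁻¹ * v a = 1
      exact inv_mul_cancel₀ ha
    obtain ⟨x, hxa, hx, hc⟩ := exists_point_of_zero (i := i) hwa (fun F hF => by
      have hle : Ideal.span (S : Set (MvPolynomial (Fin (r + 1)) k)) ≤ RingHom.ker (eval w) :=
        Ideal.span_le.2 fun G hG => hw (Sum.inl ⟨G, hG⟩)
      exact hle (hE.gen F hF))
    refine (transversal_iff i n hn H₀).1 hH₀ a x hxa hx ((σ_mem_sq_iff_evalEq d hE hc hx H₀).2 ?_)
    funext l
    rw [evalEq_apply]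
    exact hw (Sum.inr l)
  obtain ⟨f, hf, hf0, hfH⟩ := isOpen_noCommonZero δ P hhom hpoly H₀ h0
  refine ⟨f, hf, hf0, fun H hH => (transversal_iff i n hn H).2 fun a x hxa hx hmem => ?_⟩
  obtain ⟨c, hc'⟩ := exists_coords i a x hxa hx
  have hc : IsCoord i a x hxa c := hc'
  have h1 := (σ_mem_sq_iff_evalEq d hE hc hx H).1 hmem
  have h2 : c = 0 := hfH H hH c fun j => by
    rcases j with F | l
    · exact eval_eq_zero_of_mem hc hE.sub F.2
    · exact (evalEq_apply S m d c H l).symm.trans (congrFun h1 l)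
  exact one_ne_zero ((coord_self hc).symm.trans (congrFun h2 a))

/-- The forms tangent somewhere form an irreducible set. -/
theorem tangent_irreducible (hE : Eqns i S m n) (hn : 1 ≤ n) (hd : 1 ≤ d) {f g : LefPen.Form r k d → k}
    (hf : LefPen.IsPolyFun k f) (hg : LefPen.IsPolyFun k g)
    (hfg : ∀ H : LefPen.Form r k d, ¬ LefPen.Transversal k n 1 (LefPen.secToSpec i ({H} : Set (LefPen.Form r k d))) →
      f H * g H = 0) :
    (∀ H : LefPen.Form r k d, ¬ LefPen.Transversal k n 1 (LefPen.secToSpec i ({H} : Set (LefPen.Form r k d))) → f H = 0) ∨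
    (∀ H : LefPen.Form r k d, ¬ LefPen.Transversal k n 1 (LefPen.secToSpec i ({H} : Set (LefPen.Form r k d))) → g H = 0) := by
  classical
  haveI : JacobsonSpace X := LocallyOfFiniteType.jacobsonSpace (i ≫ CohB1.ProjSpace.toSpec r k)
  by_contra hcon
  push Not at hcon
  obtain ⟨⟨H₁, hT₁, hf₁⟩, H₂, hT₂, hg₂⟩ := hcon
  rw [transversal_iff i n hn] at hT₁ hT₂
  push Not at hT₁ hT₂
  obtain ⟨a, x₁, hxa₁, hx₁, hm₁⟩ := hT₁
  obtain ⟨b, x₂, hxb₂, hx₂, hm₂⟩ := hT₂
  obtain ⟨U₁, hU₁, hU₁a, hU₁'⟩ := exists_tangent_ne_zero d hE hd hf hxa₁ hx₁ hm₁ hf₁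
  obtain ⟨U₂, hU₂, hU₂b, hU₂'⟩ := exists_tangent_ne_zero d hE hd hg hxb₂ hx₂ hm₂ hg₂
  obtain ⟨x, hxU, hx⟩ := nonempty_inter_closedPoints
    (nonempty_preirreducible_inter U₁.isOpen U₂.isOpen hU₁ hU₂) (U₁.isOpen.inter U₂.isOpen).isLocallyClosed
  have hxa : i x ∈ LefPen.chart r k a := hU₁a hxU.1
  have hxb : i x ∈ LefPen.chart r k b := hU₂b hxU.2
  obtain ⟨G₁, hG₁, hfG₁⟩ := hU₁' x hxU.1 hxa hx
  obtain ⟨G₂, hG₂, hgG₂⟩ := hU₂' x hxU.2 hxb hx
  obtain ⟨c, hc'⟩ := exists_coords i a x hxa hx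
  have hc : IsCoord i a x hxa c := hc'
  obtain ⟨H, hH, hne⟩ := exists_mem_mul_ne_zero hf hg (LinearMap.ker (evalEq S m d c))
    ⟨G₁, LinearMap.mem_ker.2 ((σ_mem_sq_iff_evalEq d hE hc hx G₁).1 hG₁), hfG₁⟩
    ⟨G₂, LinearMap.mem_ker.2 ((σ_mem_sq_iff_evalEq d hE hc hx G₂).1
      (sq_mem_change ((mem_homogeneousSubmodule d _).1 G₂.2) b a x hxb hxa hG₂)), hgG₂⟩
  refine hne (hfg H ?_)
  rw [transversal_iff i n hn]
  push Not
  exact ⟨a, x, hxa, hx, (σ_mem_sq_iff_evalEq d hE hc hx H).2 (LinearMap.mem_ker.1 hH)⟩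

end Groth.L05.DualVar
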