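import Groth.Agent.L05.OrdQuad.Main
import Mathlib.LinearAlgebra.Dimension.Free
import Mathlib.Algebra.MvPolynomial.PDeriv

/-! First order jets of forms at a rational point of a closed subscheme of projective space. -/

set_option autoImplicit false
set_option linter.style.haveILetI false
set_option backward.isDefEq.respectTransparency false
set_option backward.isDefEq.respectTransparency.types false

universe u

open CategoryTheory CategoryTheory.Limits AlgebraicGeometry TopologicalSpace MvPolynomial IsLocalRing

noncomputable section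

namespace Groth.L05.DualVar

open Groth.L05.OrdQuad (σ σ_C σ_X_self exists_residue)

variable {k : Type u} [Field k] {r : ℕ}

/-- The gradient of a polynomial at a point, as a linear map. -/
def grad (c : Fin (r + 1) → k) : MvPolynomial (Fin (r + 1)) k →ₗ[k] (Fin (r + 1) → k) :=
  LinearMap.pi fun j => (aeval c).toLinearMap ∘ₗ (pderiv j).toLinearMap

theorem grad_apply (c : Fin (r + 1) → k) (G : MvPolynomial (Fin (r + 1)) k) (j : Fin (r + 1)) :
    grad c G j = eval c (pderiv j G) := by
  simp [grad]

theorem grad_mul (c : Fin (r + 1) → k) (F G : MvPolynomial (Fin (r + 1)) k) :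
    grad c (F * G) = eval c G • grad c F + eval c F • grad c G := by
  funext j
  simp only [grad_apply, pderiv_mul, map_add, map_mul, Pi.add_apply, Pi.smul_apply, smul_eq_mul]
  ring

theorem sum_mul_grad {c : Fin (r + 1) → k} {F : MvPolynomial (Fin (r + 1)) k} {e : ℕ} (hF : F.IsHomogeneous e) :
    ∑ j, c j * grad c F j = (e : k) * eval c F := by
  have h := congrArg (eval c) hF.sum_X_mul_pderiv
  simpa [map_sum, grad_apply, nsmul_eq_mul] using h

variable {X : Scheme.{u}} (i : X ⟶ CohB1.ProjSpace r k) (a : Fin (r + 1)) (x : X)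
  (hxa : i x ∈ LefPen.chart r k a) (c : Fin (r + 1) → k)

/-- A translated coordinate in the local ring. -/
abbrev tc (j : Fin (r + 1)) : X.presheaf.stalk x := σ i a x hxa (MvPolynomial.X j - C (c j))

/-- Covectors with vanishing differential on `X`. -/
def jetKer : Submodule k (Fin (r + 1) → k) where
  carrier := {u | ∑ j, σ i a x hxa (C (u j)) * tc i a x hxa c j ∈ maximalIdeal (X.presheaf.stalk x) ^ 2}
  add_mem' {u v} hu hv := by
    show ∑ j, σ i a x hxa (C ((u + v) j)) * tc i a x hxa c j ∈ maximalIdeal (X.presheaf.stalk x) ^ 2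
    simp only [Pi.add_apply, map_add, add_mul, Finset.sum_add_distrib]
    exact add_mem hu hv
  zero_mem' := by simp
  smul_mem' e {u} hu := by
    show ∑ j, σ i a x hxa (C ((e • u) j)) * tc i a x hxa c j ∈ maximalIdeal (X.presheaf.stalk x) ^ 2
    simp only [Pi.smul_apply, smul_eq_mul, map_mul, mul_assoc, ← Finset.mul_sum]
    exact Ideal.mul_mem_left _ _ hu

theorem mem_jetKer {u : Fin (r + 1) → k} : u ∈ jetKer i a x hxa c ↔
    ∑ j, σ i a x hxa (C (u j)) * tc i a x hxa c j ∈ maximalIdeal (X.presheaf.stalk x) ^ 2 := Iff.rfl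

/-- The translated coordinates generate the maximal ideal. -/
def IsCoord : Prop := Ideal.span (Set.range (tc i a x hxa c)) = maximalIdeal (X.presheaf.stalk x)

variable {i a x hxa c} (hc : IsCoord i a x hxa c)
include hc

theorem tc_mem (j : Fin (r + 1)) : tc i a x hxa c j ∈ maximalIdeal (X.presheaf.stalk x) :=
  hc.le (Ideal.subset_span ⟨j, rfl⟩)

theorem residue_comp : (residue (X.presheaf.stalk x)).comp (σ i a x hxa) =
    ((residue (X.presheaf.stalk x)).comp ((σ i a x hxa).comp C)).comp (eval c) := by
  refine MvPolynomial.ringHom_ext (fun t => by simp) fun j => ?_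
  simp only [RingHom.comp_apply, eval_X]
  rw [← sub_eq_zero, ← map_sub, residue_eq_zero_iff, ← map_sub]
  exact tc_mem hc j

theorem σ_mem_iff (G : MvPolynomial (Fin (r + 1)) k) :
    σ i a x hxa G ∈ maximalIdeal (X.presheaf.stalk x) ↔ eval c G = 0 := by
  rw [← residue_eq_zero_iff, ← RingHom.comp_apply, residue_comp hc, RingHom.comp_apply]
  exact map_eq_zero_iff _ (RingHom.injective _)

theorem coord_self : c a = 1 := by
  have h := σ_mem_iff hc (MvPolynomial.X a - C (c a))
  have h1 : σ i a x hxa (MvPolynomial.X a - 1) ∈ maximalIdeal (X.presheaf.stalk x) := by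
    rw [map_sub, σ_X_self, map_one, sub_self]
    exact zero_mem _
  have h2 := (σ_mem_iff hc _).1 h1
  rw [map_sub, eval_X, map_one, sub_eq_zero] at h2
  exact h2

/-- Taylor's formula to first order. -/
theorem taylor (G : MvPolynomial (Fin (r + 1)) k) :
    σ i a x hxa G - σ i a x hxa (C (eval c G)) - ∑ j, σ i a x hxa (C (grad c G j)) * tc i a x hxa c j ∈
      maximalIdeal (X.presheaf.stalk x) ^ 2 := by
  classical
  induction G using MvPolynomial.induction_on with
  | C t => simp [grad_apply]
  | add p q hp hq =>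
    convert add_mem hp hq using 1
    simp only [map_add, Pi.add_apply, add_mul, Finset.sum_add_distrib]
    ring
  | mul_X p l hp =>
    have h1 := Ideal.mul_mem_right (σ i a x hxa (MvPolynomial.X l)) _ hp
    have hS : ∑ j, σ i a x hxa (C (grad c p j)) * tc i a x hxa c j ∈ maximalIdeal (X.presheaf.stalk x) :=
      Submodule.sum_mem _ fun j _ => Ideal.mul_mem_left _ _ (tc_mem hc j)
    have h2 : (∑ j, σ i a x hxa (C (grad c p j)) * tc i a x hxa c j) * tc i a x hxa c l ∈
        maximalIdeal (X.presheaf.stalk x) ^ 2 := by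
      rw [pow_two]
      exact Ideal.mul_mem_mul hS (tc_mem hc l)
    convert add_mem h1 h2 using 1
    have hg : grad c (p * MvPolynomial.X l) = c l • grad c p + eval c p • Pi.single l (1 : k) := by
      rw [grad_mul, eval_X]
      congr 2
      funext j
      by_cases h : l = j
      · subst h
        rw [grad_apply, pderiv_X_self, map_one, Pi.single_eq_same]
      · rw [grad_apply, pderiv_X_of_ne h, map_zero, Pi.single_eq_of_ne (Ne.symm h)]
    have hsingle : ∑ j, σ i a x hxa (C ((Pi.single l (1 : k) : Fin (r + 1) → k) j)) * tc i a x hxa c j =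
        tc i a x hxa c l := by
      rw [Finset.sum_eq_single l (fun j _ hj => by rw [Pi.single_eq_of_ne hj]; simp)
        (fun h => absurd (Finset.mem_univ l) h), Pi.single_eq_same]
      simp
    rw [hg]
    simp only [Pi.add_apply, Pi.smul_apply, smul_eq_mul, map_add, map_mul, add_mul, mul_assoc,
      Finset.sum_add_distrib, ← Finset.mul_sum, hsingle, eval_X]
    rw [show tc i a x hxa c l = σ i a x hxa (MvPolynomial.X l) - σ i a x hxa (C (c l)) from map_sub _ _ _]
    ring

theorem σ_mem_sq_iff (G : MvPolynomial (Fin (r + 1)) k) :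
    σ i a x hxa G ∈ maximalIdeal (X.presheaf.stalk x) ^ 2 ↔ eval c G = 0 ∧ grad c G ∈ jetKer i a x hxa c := by
  have hT := taylor hc G
  constructor
  · intro h
    have h0 : eval c G = 0 := (σ_mem_iff hc G).1 (Ideal.pow_le_self two_ne_zero h)
    refine ⟨h0, ?_⟩
    rw [mem_jetKer]
    have := sub_mem h hT
    rwa [h0, map_zero, map_zero, sub_zero, sub_sub_cancel] at this
  · rintro ⟨h0, h1⟩
    rw [h0, map_zero, map_zero, sub_zero] at hT
    simpa using add_mem hT h1

theorem single_mem_jetKer : Pi.single a (1 : k) ∈ jetKer i a x hxa c := by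
  classical
  rw [mem_jetKer, Finset.sum_eq_single a (fun j _ hj => by rw [Pi.single_eq_of_ne hj]; simp)
    (fun h => absurd (Finset.mem_univ a) h)]
  rw [show tc i a x hxa c a = 0 by rw [tc, map_sub, σ_X_self, coord_self hc, map_one, map_one, sub_self], mul_zero]
  exact zero_mem _

variable [IsClosedImmersion i] [IsAlgClosed k]

theorem finrank_jetKer (hx : IsClosed ({x} : Set X)) (n : ℕ)
    [IsLocallyNoetherian X] (hn : Module.finrank (ResidueField (X.presheaf.stalk x)) (CotangentSpace (X.presheaf.stalk x)) = n) :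
    Module.finrank k ↥(jetKer i a x hxa c) + n = r + 1 := by
  classical
  set A := X.presheaf.stalk x
  letI : Algebra k A := ((σ i a x hxa).comp C).toAlgebra
  have hbij : Function.Bijective (algebraMap k (ResidueField A)) :=
    ⟨(algebraMap k (ResidueField A)).injective, fun z => by
      obtain ⟨z, rfl⟩ := residue_surjective z
      obtain ⟨e, he⟩ := exists_residue i a x hxa hx z
      exact ⟨e, ((sub_eq_zero.1 ((map_sub _ _ _).symm.trans ((residue_eq_zero_iff _).2 he)))).symm⟩⟩
  let Λ : (Fin (r + 1) → k) →ₗ[k] CotangentSpace A :=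
    ∑ j, (LinearMap.proj j).smulRight ((maximalIdeal A).toCotangent ⟨tc i a x hxa c j, tc_mem hc j⟩)
  have hΛ : ∀ u, Λ u = (maximalIdeal A).toCotangent
      ⟨∑ j, σ i a x hxa (C (u j)) * tc i a x hxa c j, Submodule.sum_mem _ fun j _ => Ideal.mul_mem_left _ _ (tc_mem hc j)⟩ := by
    intro u
    simp only [Λ, LinearMap.sum_apply, LinearMap.smulRight_apply, LinearMap.proj_apply]
    rw [show (⟨∑ j, σ i a x hxa (C (u j)) * tc i a x hxa c j, Submodule.sum_mem _ fun j _ =>
        Ideal.mul_mem_left _ _ (tc_mem hc j)⟩ : maximalIdeal A) =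
      ∑ j, (σ i a x hxa (C (u j))) • (⟨tc i a x hxa c j, tc_mem hc j⟩ : maximalIdeal A) from Subtype.ext (by simp),
      map_sum]
    refine Finset.sum_congr rfl fun j _ => ?_
    rw [map_smul]
    exact (algebraMap_smul A (u j) _).symm
  have hker : LinearMap.ker Λ = jetKer i a x hxa c := by
    ext u
    rw [LinearMap.mem_ker, hΛ, Ideal.toCotangent_eq_zero, mem_jetKer]
  have hsurj : Function.Surjective Λ := by
    intro z
    obtain ⟨⟨m, hm⟩, rfl⟩ := (maximalIdeal A).toCotangent_surjective z
    obtain ⟨v, hv⟩ := Ideal.mem_span_range_iff_exists_fun.1 (hc.ge hm)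
    choose w hw using fun j => exists_residue i a x hxa hx (v j)
    refine ⟨w, ?_⟩
    rw [hΛ, Ideal.toCotangent_eq]
    show _ - m ∈ _
    rw [← hv, ← Finset.sum_sub_distrib]
    refine Submodule.sum_mem _ fun j _ => ?_
    rw [← sub_mul, pow_two]
    refine Ideal.mul_mem_mul ?_ (tc_mem hc j)
    rw [← neg_sub]
    exact neg_mem (hw j)
  have hres : Module.finrank k (ResidueField A) = 1 := by
    rw [← (LinearEquiv.ofBijective (Algebra.linearMap k (ResidueField A)) hbij).finrank_eq, Module.finrank_self]
  haveI : IsScalarTower k (ResidueField A) (CotangentSpace A) := by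
    refine IsScalarTower.of_algebraMap_smul fun e z => ?_
    rw [IsScalarTower.algebraMap_apply k A (ResidueField A), algebraMap_smul, algebraMap_smul]
  have hfin : Module.finrank k (CotangentSpace A) = n := by
    rw [← Module.finrank_mul_finrank k (ResidueField A) (CotangentSpace A), hres, one_mul, hn]
  haveI : Module.Finite k (CotangentSpace A) := Module.Finite.of_surjective Λ hsurj
  have := Λ.finrank_range_add_finrank_ker
  rw [LinearMap.range_eq_top.2 hsurj, finrank_top, hfin, hker, Module.finrank_fin_fun] at this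
  omega

end Groth.L05.DualVar
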