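import Groth.Agent.L05.DualVar.Cone
import Groth.Agent.L05.DualVar.Criterion
import Groth.Agent.L05.DualVar.ChangeChart
import Groth.Agent.L05.DualVar.Minors
import Groth.Agent.L05.DualVar.Elim

/-! The forms cutting a smooth projective variety non-transversally form an irreducible closed set. -/

set_option autoImplicit false
set_option linter.style.haveILetI false
set_option backward.isDefEq.respectTransparency false
set_option backward.isDefEq.respectTransparency.types false
set_option maxHeartbeats 1000000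

universe u

open CategoryTheory CategoryTheory.Limits AlgebraicGeometry TopologicalSpace MvPolynomial IsLocalRing

noncomputable section

namespace Groth.L05.DualVar

open Groth.L05.OrdQuad (σ σ_X_self exists_coords)

variable {k : Type u} [Field k] {r : ℕ}

/-- The index set of the equations linear in the form. -/
abbrev LinIdx (S : Finset (MvPolynomial (Fin (r + 1)) k)) (m : ℕ) : Type u :=
  Unit ⊕ ((Fin m → ↥S) × (Fin (m + 1) → Fin (r + 1)))

/-- The tangency equations, linear in the form. -/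
def linEq (S : Finset (MvPolynomial (Fin (r + 1)) k)) (m : ℕ) :
    LinIdx S m → (MvPolynomial (Fin (r + 1)) k →ₗ[k] MvPolynomial (Fin (r + 1)) k)
  | Sum.inl _ => LinearMap.id
  | Sum.inr p => minor (fun s => (p.1 s).1) p.2

/-- Their values at a point. -/
def evalEq (S : Finset (MvPolynomial (Fin (r + 1)) k)) (m d : ℕ) (c : Fin (r + 1) → k) :
    LefPen.Form r k d →ₗ[k] (LinIdx S m → k) :=
  LinearMap.pi fun j => (aeval c).toLinearMap ∘ₗ linEq S m j ∘ₗ (CohB1.polyGrading r k d).subtype

theorem evalEq_apply (S : Finset (MvPolynomial (Fin (r + 1)) k)) (m d : ℕ) (c : Fin (r + 1) → k)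
    (H : LefPen.Form r k d) (j : LinIdx S m) : evalEq S m d c H j = eval c (linEq S m j H.1) := by
  simp [evalEq]

variable {X : Scheme.{u}} {i : X ⟶ CohB1.ProjSpace r k}

theorem sq_mem_change {d : ℕ} {G : MvPolynomial (Fin (r + 1)) k} (hG : G.IsHomogeneous d) (a b : Fin (r + 1)) (x : X)
    (hxa : i x ∈ LefPen.chart r k a) (hxb : i x ∈ LefPen.chart r k b)
    (h : σ i a x hxa G ∈ maximalIdeal (X.presheaf.stalk x) ^ 2) :
    σ i b x hxb G ∈ maximalIdeal (X.presheaf.stalk x) ^ 2 := by
  rw [σ_change i G hG a b x hxa hxb]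
  exact Ideal.mul_mem_right _ _ h

variable [IsClosedImmersion i] [IrreducibleSpace X] [IsAlgClosed k]
  (S : Finset (MvPolynomial (Fin (r + 1)) k)) (m n d : ℕ)
  [SmoothOfRelativeDimension n (i ≫ CohB1.ProjSpace.toSpec r k)]

/-- Standing hypotheses on the equations. -/
structure Eqns (i : X ⟶ CohB1.ProjSpace r k) (S : Finset (MvPolynomial (Fin (r + 1)) k)) (m n : ℕ) : Prop where
  sub : ↑S ⊆ Van i
  gen : ∀ F ∈ Van i, F ∈ Ideal.span (S : Set (MvPolynomial (Fin (r + 1)) k))
  dim : m + n = r

variable {S m n} (hE : Eqns i S m n)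

omit [IrreducibleSpace X] [IsAlgClosed k] [SmoothOfRelativeDimension n (i ≫ CohB1.ProjSpace.toSpec r k)] in
theorem isReduced_of_smooth (i : X ⟶ CohB1.ProjSpace r k) (n : ℕ)
    [SmoothOfRelativeDimension n (i ≫ CohB1.ProjSpace.toSpec r k)] : IsReduced X := by
  haveI : Smooth (i ≫ CohB1.ProjSpace.toSpec r k) := SmoothOfRelativeDimension.smooth n _
  haveI : ∀ x : X, _root_.IsReduced (X.presheaf.stalk x) := fun x => by
    haveI : IsRegularLocalRing (X.presheaf.stalk x) :=
      Groth.L08.Cube.isRegularLocalRing_of_smooth (i ≫ CohB1.ProjSpace.toSpec r k) x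
    haveI := Groth.L01.isDomain_of_regular (X.presheaf.stalk x)
    infer_instance
  exact isReduced_of_isReduced_stalk X

variable [IsReduced X] [IsLocallyNoetherian X]

include hE in
theorem finrank_span {a : Fin (r + 1)} {x : X} {hxa : i x ∈ LefPen.chart r k a} {c : Fin (r + 1) → k}
    (hc : IsCoord i a x hxa c) (hx : IsClosed ({x} : Set X)) :
    Module.finrank k ↥(Submodule.span k (grad c '' (S : Set (MvPolynomial (Fin (r + 1)) k)))) = m := by
  have h := finrank_span_grad hc hE.sub hE.gen hx n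
    (Groth.L14.Quot.finrank_cotangent_of_smoothOfRelativeDimension (i ≫ CohB1.ProjSpace.toSpec r k) n x hx)
  have := hE.dim
  omega

include hE in
/-- Tangency at a point through the equations. -/
theorem σ_mem_sq_iff_evalEq {a : Fin (r + 1)} {x : X} {hxa : i x ∈ LefPen.chart r k a} {c : Fin (r + 1) → k}
    (hc : IsCoord i a x hxa c) (hx : IsClosed ({x} : Set X)) (H : LefPen.Form r k d) :
    σ i a x hxa H.1 ∈ maximalIdeal (X.presheaf.stalk x) ^ 2 ↔ evalEq S m d c H = 0 := by
  rw [σ_form_mem_sq_iff hc hE.sub hE.gen H, mem_span_iff_minors _ c (finrank_span hE hc hx)]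
  constructor
  · rintro ⟨h0, h1⟩
    funext j
    rw [evalEq_apply]
    match j with
    | Sum.inl _ => exact h0
    | Sum.inr p => exact h1 _ (fun s => (p.1 s).2) p.2
  · intro h
    refine ⟨?_, fun g hg col => ?_⟩
    · have := congrFun h (Sum.inl ())
      rw [evalEq_apply] at this
      exact this
    · have := congrFun h (Sum.inr (fun s => ⟨g s, hg s⟩, col))
      rw [evalEq_apply] at this
      exact this

omit [IrreducibleSpace X] [IsAlgClosed k] [IsReduced X] [IsLocallyNoetherian X] in
theorem grad_lift_apply (a : Fin (r + 1)) {c : Fin (r + 1) → k} (hca : c a = 1) (t : k) (u : Fin (r + 1) → k)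
    (e : ℕ) (j : Fin (r + 1)) (hj : j ≠ a) :
    grad c (MvPolynomial.X a ^ e *
      (C t * MvPolynomial.X a + ∑ l, C (u l) * (MvPolynomial.X l - C (c l) * MvPolynomial.X a))) j = u j := by
  classical
  have h1 : grad c (MvPolynomial.X a ^ e) j = 0 := by
    rw [grad_apply, pderiv_pow, pderiv_X_of_ne (Ne.symm hj), mul_zero, map_zero]
  have h2 : grad c (C t * MvPolynomial.X a + ∑ l, C (u l) * (MvPolynomial.X l - C (c l) * MvPolynomial.X a)) j = u j := by
    rw [grad_apply, map_add, pderiv_C_mul, pderiv_X_of_ne (Ne.symm hj), mul_zero, zero_add, map_sum, map_sum,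
      Finset.sum_eq_single j]
    · rw [pderiv_C_mul, map_sub, pderiv_X_self, pderiv_C_mul, pderiv_X_of_ne (Ne.symm hj), mul_zero, sub_zero, mul_one,
        eval_C]
    · intro l _ hl
      rw [pderiv_C_mul, map_sub, pderiv_X_of_ne hl, pderiv_C_mul, pderiv_X_of_ne (Ne.symm hj), mul_zero, sub_zero,
        mul_zero, map_zero]
    · exact fun h => absurd (Finset.mem_univ j) h
  rw [grad_mul, Pi.add_apply, Pi.smul_apply, Pi.smul_apply, h1, h2, map_pow, eval_X, hca, one_pow, smul_zero, zero_add,
    one_smul]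

theorem finite_Form : Module.Finite k (LefPen.Form r k d) :=
  (Groth.L03.PlanePoints.finrank_homogeneous (F := k) r d).1

include hE in
/-- Forms tangent at a point form a subspace of codimension `n + 1`. -/
theorem finrank_range_evalEq (hd : 1 ≤ d) {a : Fin (r + 1)} {x : X} {hxa : i x ∈ LefPen.chart r k a}
    {c : Fin (r + 1) → k} (hc : IsCoord i a x hxa c) (hx : IsClosed ({x} : Set X)) :
    Module.finrank k ↥(LinearMap.range (evalEq S m d c)) = n + 1 := by
  classical
  haveI : Module.Finite k (LefPen.Form r k d) := finite_Form d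
  have h3 := finrank_jetKer hc hx n
    (Groth.L14.Quot.finrank_cotangent_of_smoothOfRelativeDimension (i ≫ CohB1.ProjSpace.toSpec r k) n x hx)
  have hmem : ∀ H : LefPen.Form r k d, evalEq S m d c H = 0 ↔ eval c H.1 = 0 ∧ grad c H.1 ∈ jetKer i a x hxa c :=
    fun H => (σ_mem_sq_iff_evalEq d hE hc hx H).symm.trans (σ_mem_sq_iff hc H.1)
  have hsingle := single_mem_jetKer hc
  generalize jetKer i a x hxa c = K at h3 hmem hsingle
  let θ : LefPen.Form r k d →ₗ[k] k × ((Fin (r + 1) → k) ⧸ K) :=
    LinearMap.prod ((aeval c).toLinearMap ∘ₗ (CohB1.polyGrading r k d).subtype)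
      (K.mkQ ∘ₗ grad c ∘ₗ (CohB1.polyGrading r k d).subtype)
  have hθH : ∀ H : LefPen.Form r k d, θ H = (eval c H.1, Submodule.Quotient.mk (grad c H.1)) := fun H => rfl
  have hker : LinearMap.ker θ = LinearMap.ker (evalEq S m d c) := by
    ext H
    rw [LinearMap.mem_ker, LinearMap.mem_ker, hmem, hθH, Prod.mk_eq_zero, Submodule.Quotient.mk_eq_zero]
  have hca : c a = 1 := coord_self hc
  have hθ : Function.Surjective θ := by
    rintro ⟨t, w⟩
    obtain ⟨u, rfl⟩ := K.mkQ_surjective w
    let L : MvPolynomial (Fin (r + 1)) k :=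
      C t * MvPolynomial.X a + ∑ j, C (u j) * (MvPolynomial.X j - C (c j) * MvPolynomial.X a)
    have hL : L.IsHomogeneous 1 := (isHomogeneous_C_mul_X _ _).add (IsHomogeneous.sum _ _ _ fun j _ =>
      ((isHomogeneous_X k _).sub (isHomogeneous_C_mul_X _ _)).C_mul _)
    refine ⟨⟨MvPolynomial.X a ^ (d - 1) * L, (mem_homogeneousSubmodule d _).2 (by
      have h := ((isHomogeneous_X k a).pow (d - 1)).mul hL
      rw [show 1 * (d - 1) + 1 = d by omega] at h
      exact h)⟩, ?_⟩
    rw [hθH, Submodule.mkQ_apply]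
    refine Prod.ext ?_ ((Submodule.Quotient.eq K).2 ?_)
    · show eval c (MvPolynomial.X a ^ (d - 1) * L) = t
      simp only [L, map_mul, map_pow, eval_X, hca, one_pow, one_mul, map_add, map_sum, map_sub, eval_C, mul_one,
        sub_self, mul_zero, Finset.sum_const_zero, add_zero]
    · show grad c (MvPolynomial.X a ^ (d - 1) * L) - u ∈ K
      have he : grad c (MvPolynomial.X a ^ (d - 1) * L) - u =
          (grad c (MvPolynomial.X a ^ (d - 1) * L) a - u a) • (Pi.single a 1 : Fin (r + 1) → k) := by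
        funext j
        by_cases hj : j = a
        · subst hj; simp
        · rw [Pi.sub_apply, grad_lift_apply a hca t u (d - 1) j hj, sub_self, Pi.smul_apply, Pi.single_eq_of_ne hj,
            smul_zero]
      rw [he]
      exact K.smul_mem _ hsingle
  have h1 := θ.finrank_range_add_finrank_ker
  have h2 := (evalEq S m d c).finrank_range_add_finrank_ker
  have h4 := K.finrank_quotient_add_finrank
  rw [Module.finrank_fin_fun] at h4
  rw [LinearMap.range_eq_top.2 hθ, finrank_top, Module.finrank_prod, Module.finrank_self, hker] at h1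
  omega

include hE in
theorem exists_tangent_ne_zero (hd : 1 ≤ d) {f : LefPen.Form r k d → k} (hf : LefPen.IsPolyFun k f)
    {a : Fin (r + 1)} {x₀ : X} (hxa : i x₀ ∈ LefPen.chart r k a) (hx₀ : IsClosed ({x₀} : Set X))
    {H₁ : LefPen.Form r k d} (hH₁ : σ i a x₀ hxa H₁.1 ∈ maximalIdeal (X.presheaf.stalk x₀) ^ 2) (hf₁ : f H₁ ≠ 0) :
    ∃ O : X.Opens, (O : Set X).Nonempty ∧ O ≤ i ⁻¹ᵁ LefPen.chart r k a ∧
      ∀ (x : X) (hx : x ∈ O) (hxa' : i x ∈ LefPen.chart r k a), IsClosed ({x} : Set X) →
        ∃ H : LefPen.Form r k d, σ i a x hxa' H.1 ∈ maximalIdeal (X.presheaf.stalk x) ^ 2 ∧ f H ≠ 0 := by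
  classical
  obtain ⟨c₀, hc₀'⟩ := exists_coords i a x₀ hxa hx₀
  have hc₀ : IsCoord i a x₀ hxa c₀ := hc₀'
  obtain ⟨v, hv, -, hli⟩ := Submodule.exists_fun_fin_finrank_span_eq k (Set.range (evalEq S m d c₀))
  have hrk : Module.finrank k ↥(Submodule.span k (Set.range (evalEq S m d c₀))) = n + 1 := by
    rw [show Set.range (evalEq S m d c₀) = ↑(LinearMap.range (evalEq S m d c₀)) from (LinearMap.coe_range _).symm,
      Submodule.span_eq]
    exact finrank_range_evalEq d hE hd hc₀ hx₀
  choose G hG using fun t => hv (Fin.cast hrk.symm t)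
  have hliG : LinearIndependent k (fun t => evalEq S m d c₀ (G t)) := by
    rw [show (fun t => evalEq S m d c₀ (G t)) = v ∘ Fin.cast hrk.symm from _root_.funext hG]
    exact hli.comp _ (Fin.cast_injective _)
  obtain ⟨sel, hsel⟩ := exists_minor _ hliG
  let M : Matrix (Fin (n + 1)) (Fin (n + 1)) (MvPolynomial (Fin (r + 1)) k) :=
    Matrix.of fun s t => linEq S m (sel s) (G t).1
  have hM : ∀ c, M.map (eval c) = Matrix.of fun s t => evalEq S m d c (G t) (sel s) := fun c => by
    ext s t
    simp [M, evalEq_apply]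
  have hD : eval c₀ M.det ≠ 0 := by
    rw [RingHom.map_det, RingHom.mapMatrix_apply, hM, ← Matrix.det_transpose]
    exact hsel
  let lH : LefPen.Form r k d → Fin (n + 1) → MvPolynomial (Fin (r + 1)) k := fun H s => linEq S m (sel s) H.1
  set H₁' := (eval c₀ M.det)⁻¹ • H₁
  let p : Option (Fin (n + 1)) → MvPolynomial (Fin (r + 1)) k :=
    fun o => o.elim M.det fun t => -(M.adjugate.mulVec (lH H₁') t)
  let W : Option (Fin (n + 1)) → LefPen.Form r k d := fun o => o.elim H₁' G
  obtain ⟨Q, hQ⟩ := exists_poly_comp p W hf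
  have hP : ∀ c, ∑ o, eval c (p o) • W o =
      eval c M.det • H₁' + ∑ t, eval c (-(M.adjugate.mulVec (lH H₁') t)) • G t := fun c => by
    rw [Fintype.sum_option]
    rfl
  have hQ₀ : eval c₀ Q ≠ 0 := by
    rw [← hQ, hP]
    have h0 : ∀ s, eval c₀ (lH H₁' s) = 0 := by
      intro s
      have h := (σ_mem_sq_iff_evalEq d hE hc₀ hx₀ H₁).1 hH₁
      show eval c₀ (linEq S m (sel s) H₁'.1) = 0
      rw [← evalEq_apply, map_smul, h, smul_zero]
      rfl
    have h1 : ∀ t, eval c₀ (-(M.adjugate.mulVec (lH H₁') t)) = 0 := fun t => by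
      simp [Matrix.mulVec, dotProduct, map_sum, h0]
    simp only [h1, zero_smul, Finset.sum_const_zero, add_zero]
    rw [smul_smul, mul_inv_cancel₀ hD, one_smul]
    exact hf₁
  set R := M.det * Q
  let s : Γ(X, i ⁻¹ᵁ LefPen.chart r k a) := (i.app (LefPen.chart r k a)).hom (Groth.L18.CIProj.deh a R)
  have hR₀ : eval c₀ R ≠ 0 := by rw [map_mul]; exact mul_ne_zero hD hQ₀
  refine ⟨X.basicOpen s, ⟨x₀, (X.mem_basicOpen _ x₀ hxa).2 ?_⟩, X.basicOpen_le s, fun x hx hxa' hxc => ?_⟩
  · by_contra hu
    exact hR₀ ((σ_mem_iff hc₀ R).1 ((mem_maximalIdeal _).2 hu))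
  obtain ⟨c, hc'⟩ := exists_coords i a x hxa' hxc
  have hc : IsCoord i a x hxa' c := hc'
  have hRc : eval c R ≠ 0 := fun h => by
    have h1 : σ i a x hxa' R ∈ maximalIdeal (X.presheaf.stalk x) := (σ_mem_iff hc R).2 h
    exact (mem_nonunits_iff.1 ((mem_maximalIdeal _).1 h1)) ((X.mem_basicOpen _ x hxa').1 hx)
  rw [map_mul, mul_ne_zero_iff] at hRc
  refine ⟨∑ o, eval c (p o) • W o, (σ_mem_sq_iff_evalEq d hE hc hxc _).2 ?_, by rw [hQ]; exact hRc.2⟩
  let π : LefPen.Form r k d →ₗ[k] (Fin (n + 1) → k) :=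
    (LinearMap.funLeft k k sel) ∘ₗ evalEq S m d c
  have hπs : Function.Surjective π := by
    intro z
    have hu : IsUnit (M.map (eval c)) := by
      rw [Matrix.isUnit_iff_isUnit_det, ← RingHom.mapMatrix_apply, ← RingHom.map_det]
      exact isUnit_iff_ne_zero.2 hRc.1
    obtain ⟨w, hw⟩ := Matrix.mulVec_surjective_iff_isUnit.2 hu z
    refine ⟨∑ t, w t • G t, ?_⟩
    rw [← hw, hM]
    funext l
    simp [π, Matrix.mulVec, dotProduct, LinearMap.funLeft, Finset.sum_apply, mul_comm]
  have hKer : LinearMap.ker (evalEq S m d c) = LinearMap.ker π := by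
    haveI : Module.Finite k (LefPen.Form r k d) := finite_Form d
    refine Submodule.eq_of_le_of_finrank_eq (LinearMap.ker_le_ker_comp _ _) ?_
    have h1 := (evalEq S m d c).finrank_range_add_finrank_ker
    have h2 := π.finrank_range_add_finrank_ker
    rw [finrank_range_evalEq d hE hd hc hxc] at h1
    rw [LinearMap.range_eq_top.2 hπs, finrank_top, Module.finrank_fin_fun] at h2
    omega
  refine LinearMap.mem_ker.1 (hKer.ge ?_)
  rw [LinearMap.mem_ker, hP]
  have hlH : (fun l => π H₁' l) = fun l => eval c (lH H₁' l) := by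
    funext l
    simp [π, lH, evalEq_apply, LinearMap.funLeft]
  funext l
  have hexp : ∀ t, π (G t) l = (M.map (eval c)) l t := fun t => by
    rw [hM]; simp [π, LinearMap.funLeft]
  have hv := congrArg (fun w => w l) (show (M.map (eval c)).mulVec ((M.map (eval c)).adjugate.mulVec (fun l => eval c (lH H₁' l)))
    = (M.map (eval c)).det • (fun l => eval c (lH H₁' l)) by
      rw [Matrix.mulVec_mulVec, Matrix.mul_adjugate, Matrix.smul_mulVec, Matrix.one_mulVec])
  have hadj : ∀ t, eval c (M.adjugate.mulVec (lH H₁') t) =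
      (M.map (eval c)).adjugate.mulVec (fun l => eval c (lH H₁' l)) t := fun t => by
    rw [show (M.map (eval c)).adjugate = M.adjugate.map (eval c) from ((eval c).map_adjugate M).symm]
    simp [Matrix.mulVec, dotProduct, map_sum]
  simp only [map_add, map_smul, map_sum, Pi.add_apply, Pi.smul_apply, Finset.sum_apply, smul_eq_mul, hexp, map_neg,
    hadj, Pi.zero_apply, neg_mul, Finset.sum_neg_distrib]
  rw [show π H₁' l = eval c (lH H₁' l) from congrFun hlH l, RingHom.map_det, RingHom.mapMatrix_apply]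
  simp only [Matrix.mulVec, dotProduct, Pi.smul_apply, smul_eq_mul] at hv ⊢
  rw [← hv, ← Finset.sum_neg_distrib, ← Finset.sum_add_distrib]
  refine Finset.sum_eq_zero fun t _ => ?_
  ring

end Groth.L05.DualVar
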