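import Groth.Prelude.Def_LefPen
import Mathlib.Algebra.Polynomial.Roots
import Mathlib.Algebra.MvPolynomial.Funext
import Mathlib.LinearAlgebra.Matrix.Determinant.Basic

/-! Polynomial functions on vector spaces. -/

set_option autoImplicit false
set_option linter.style.haveILetI false

universe u

open MvPolynomial

noncomputable section

namespace Groth.L05.DualVar

variable {k : Type u} [Field k] {V : Type u} [AddCommGroup V] [Module k V]

theorem isPolyFun_linear (l : Module.Dual k V) : LefPen.IsPolyFun k (fun v => l v) :=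
  Algebra.subset_adjoin ⟨l, rfl⟩

theorem isPolyFun_sum {ι : Type*} (s : Finset ι) (f : ι → V → k) (h : ∀ j ∈ s, LefPen.IsPolyFun k (f j)) :
    LefPen.IsPolyFun k (fun v => ∑ j ∈ s, f j v) := by
  unfold LefPen.IsPolyFun at h ⊢
  have := Subalgebra.sum_mem _ h
  convert this using 1
  funext v
  rw [Finset.sum_apply]

theorem isPolyFun_det {ι : Type*} [Fintype ι] [DecidableEq ι] (M : V → Matrix ι ι k)
    (h : ∀ a b, LefPen.IsPolyFun k (fun v => M v a b)) : LefPen.IsPolyFun k (fun v => (M v).det) := by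
  classical
  unfold LefPen.IsPolyFun at h ⊢
  have := Subalgebra.sum_mem (Algebra.adjoin k (Set.range fun l : Module.Dual k V => (l : V → k)))
    (t := Finset.univ) (f := fun p : Equiv.Perm ι => ((Equiv.Perm.sign p : ℤ) : k) • ∏ a, fun v => M v (p a) a)
    fun p _ => Subalgebra.smul_mem _ (Subalgebra.prod_mem _ fun a _ => h _ _) _
  convert this using 1
  funext v
  rw [Matrix.det_apply', Finset.sum_apply]
  refine Finset.sum_congr rfl fun p _ => ?_
  rw [Pi.smul_apply, Finset.prod_apply, smul_eq_mul]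

/-- A polynomial function along a curve with polynomial coordinates. -/
theorem exists_poly_comp {σ W : Type*} [Fintype W] (p : W → MvPolynomial σ k) (G : W → V) {f : V → k}
    (hf : LefPen.IsPolyFun k f) :
    ∃ P : MvPolynomial σ k, ∀ c : σ → k, f (∑ s, eval c (p s) • G s) = eval c P := by
  unfold LefPen.IsPolyFun at hf
  induction hf using Algebra.adjoin_induction with
  | mem g hg =>
    obtain ⟨l, rfl⟩ := hg
    refine ⟨∑ s, C (l (G s)) * p s, fun c => ?_⟩
    simp only [map_sum, map_smul, map_mul, eval_C, smul_eq_mul]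
    exact Finset.sum_congr rfl fun s _ => mul_comm _ _
  | algebraMap a => exact ⟨C a, fun c => by simp⟩
  | add g h _ _ hg hh =>
    obtain ⟨P, hP⟩ := hg
    obtain ⟨Q, hQ⟩ := hh
    exact ⟨P + Q, fun c => by rw [Pi.add_apply, map_add, hP, hQ]⟩
  | mul g h _ _ hg hh =>
    obtain ⟨P, hP⟩ := hg
    obtain ⟨Q, hQ⟩ := hh
    exact ⟨P * Q, fun c => by rw [Pi.mul_apply, map_mul, hP, hQ]⟩

/-- The product of two polynomial functions not vanishing on a subspace does not vanish on it. -/
theorem exists_mem_mul_ne_zero [Infinite k] {f g : V → k} (hf : LefPen.IsPolyFun k f) (hg : LefPen.IsPolyFun k g)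
    (K : Submodule k V) (hf' : ∃ v ∈ K, f v ≠ 0) (hg' : ∃ v ∈ K, g v ≠ 0) : ∃ v ∈ K, f v * g v ≠ 0 := by
  obtain ⟨v, hv, hfv⟩ := hf'
  obtain ⟨w, hw, hgw⟩ := hg'
  let p : Fin 2 → MvPolynomial (Fin 1) k := ![1 - MvPolynomial.X 0, MvPolynomial.X 0]
  obtain ⟨P, hP⟩ := exists_poly_comp p ![v, w] hf
  obtain ⟨Q, hQ⟩ := exists_poly_comp p ![v, w] hg
  have e0 : ∀ F : V → k, F v = F (∑ s, eval (fun _ : Fin 1 => (0 : k)) (p s) • ![v, w] s) := fun F => by
    simp [p]
  have e1 : ∀ F : V → k, F w = F (∑ s, eval (fun _ : Fin 1 => (1 : k)) (p s) • ![v, w] s) := fun F => by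
    simp [p]
  have hPne : P ≠ 0 := fun h => hfv (by rw [e0 f, hP, h, map_zero])
  have hQne : Q ≠ 0 := fun h => hgw (by rw [e1 g, hQ, h, map_zero])
  obtain ⟨c, hc⟩ : ∃ c : Fin 1 → k, eval c (P * Q) ≠ 0 := by
    by_contra hall
    push Not at hall
    exact mul_ne_zero hPne hQne (MvPolynomial.funext fun c => (hall c).trans (map_zero _).symm)
  refine ⟨∑ s, eval c (p s) • ![v, w] s, Submodule.sum_mem _ fun s _ => K.smul_mem _ ?_, ?_⟩
  · fin_cases s
    · exact hv
    · exact hw
  · rw [hP, hQ, ← map_mul]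
    exact hc

end Groth.L05.DualVar
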